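import Groth.Agent.KiehlLib.EffaceNoeth
import Groth.Agent.QRlimLib.Unbounded
import Groth.Agent.DCohRestrLib.MV
import Groth.Agent.DCohRestrLib.Support
import Groth.Agent.PerfDualLib.Props
import Groth.Agent.S2250

/-!
# Extending bounded coherent objects from an open subscheme of a Noetherian scheme
-/

set_option autoImplicit false
set_option backward.isDefEq.respectTransparency false
set_option backward.isDefEq.respectTransparency.types false
set_option maxHeartbeats 1000000
set_option linter.style.haveILetI false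

universe u

open CategoryTheory CategoryTheory.Limits CategoryTheory.Pretriangulated AlgebraicGeometry Opposite
open scoped ZeroObject
open Groth.Agent
open DerivedCategory.TStructure (t)

attribute [local instance] HasDerivedCategory.standard

namespace KiehlLib

variable {X : Scheme.{u}} (U : X.Opens)

/-- `(Rj_* F)|_U ≅ F`. -/
theorem nonempty_restrictD_rpush_self [DCoh.HasRpush U.ι] (F : DCoh.D (U : Scheme.{u})) :
    Nonempty ((DCoh.restrictD U.ι).obj ((DCoh.Rpush U.ι).obj F) ≅ F) := by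
  obtain ⟨I, hI, ⟨e⟩⟩ := Groth.Agent.DerLib.KInjUse.exists_iso_Q_kInjective F
  haveI := DCohRestrLib.isIso_pushUnit U.ι I
  let P := Scheme.Modules.pushforward U.ι
  let R := Scheme.Modules.restrictFunctor U.ι
  let u : DerivedCategory.Qh.obj ((HomotopyCategory.quotient X.Modules (ComplexShape.up ℤ)).obj
      ((P.mapHomologicalComplex (ComplexShape.up ℤ)).obj I)) ≅
      (DCoh.Rpush U.ι).obj (DerivedCategory.Qh.obj
        ((HomotopyCategory.quotient (U : Scheme.{u}).Modules (ComplexShape.up ℤ)).obj I)) :=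
    @asIso _ _ _ _ ((DCohRestrLib.pushUnit U.ι).app
      ((HomotopyCategory.quotient (U : Scheme.{u}).Modules (ComplexShape.up ℤ)).obj I)) ‹_›
  let c : (R.mapHomologicalComplex (ComplexShape.up ℤ)).obj ((P.mapHomologicalComplex (ComplexShape.up ℤ)).obj I) ≅ I :=
    HomologicalComplex.Hom.isoOfComponents
      (fun i => (Scheme.Modules.restrictFunctorAdjCounitIso U.ι).app (I.X i))
      (fun i j _ => ((Scheme.Modules.restrictFunctorAdjCounitIso U.ι).hom.naturality (I.d i j)).symm)
  let v : DerivedCategory.Q.obj ((P.mapHomologicalComplex (ComplexShape.up ℤ)).obj I) ≅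
      (DCoh.Rpush U.ι).obj F :=
    ((DerivedCategory.quotientCompQhIso X.Modules).app _).symm ≪≫ u ≪≫
      (DCoh.Rpush U.ι).mapIso ((DerivedCategory.quotientCompQhIso _).app I ≪≫ e.symm)
  exact ⟨(DCoh.restrictD U.ι).mapIso v.symm ≪≫ R.mapDerivedCategoryFactors.app _ ≪≫
    DerivedCategory.Q.mapIso c ≪≫ e.symm⟩

theorem isIso_homology_restrictD {K L : DCoh.D X} (g : K ⟶ L) (j : ℤ)
    (h : IsIso ((DerivedCategory.homologyFunctor X.Modules j).map g)) :
    IsIso ((DerivedCategory.homologyFunctor (U : Scheme.{u}).Modules j).map ((DCoh.restrictD U.ι).map g)) :=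
  Groth.Agent.DerLib.ExactHomology.isIso_homology_map (Scheme.Modules.restrictFunctor U.ι) g j

theorem epi_map_of_natIso {C D : Type*} [Category C] [Category D] {F G : C ⥤ D} (ν : F ≅ G)
    {A B : C} (f : A ⟶ B) [Epi (G.map f)] : Epi (F.map f) := by
  rw [← NatIso.naturality_2 ν f]
  infer_instance

/-- Bounded objects. -/
def BddObj {Y : Scheme.{u}} (K : DCoh.D Y) : Prop := ∃ a b : ℤ, K.IsGE a ∧ K.IsLE b

theorem bddObj_single {Y : Scheme.{u}} (n : ℤ) (S : Y.Modules) :
    BddObj ((DerivedCategory.singleFunctor Y.Modules n).obj S) := ⟨n, n, inferInstance, inferInstance⟩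

theorem bddObj_shift {Y : Scheme.{u}} {K : DCoh.D Y} (h : BddObj K) (k : ℤ) : BddObj (K⟦k⟧) := by
  obtain ⟨a, b, ha, hb⟩ := h
  exact ⟨a - k, b - k,
    (DerivedCategory.isGE_iff _ _).2 fun i hi =>
      PerfHomLib.isZero_HD_shift (DerivedCategory.isZero_of_isGE K a _ (by omega)),
    (DerivedCategory.isLE_iff _ _).2 fun i hi =>
      PerfHomLib.isZero_HD_shift (DerivedCategory.isZero_of_isLE K b _ (by omega))⟩

theorem bddObj₂ {Y : Scheme.{u}} {T : Triangle (DCoh.D Y)} (hT : T ∈ distTriang _)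
    (h₁ : BddObj T.obj₁) (h₃ : BddObj T.obj₃) : BddObj T.obj₂ := by
  obtain ⟨a, b, ha, hb⟩ := h₁
  obtain ⟨a', b', ha', hb'⟩ := h₃
  exact ⟨min a a', max b b', t.isGE₂ T hT _ (t.isGE_of_ge _ (min a a') a (by omega))
      (t.isGE_of_ge _ (min a a') a' (by omega)),
    t.isLE₂ T hT _ (t.isLE_of_le _ b (max b b') (by omega)) (t.isLE_of_le _ b' (max b b') (by omega))⟩

theorem isCohD_single_noeth [IsLocallyNoetherian X] (n : ℤ) {S : X.Modules} (hS : Coh.IsCoh S) :
    DCoh.IsCohD ((DerivedCategory.singleFunctor X.Modules n).obj S) := fun q => by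
  by_cases hq : q = n
  · subst hq
    exact QCohLib.isCoh_of_iso ((DerivedCategory.singleFunctorCompHomologyFunctorIso X.Modules q).app S).symm hS
  · haveI := KHeartLib.isWeakSerre_isCoh (X := X)
    let P : ObjectProperty X.Modules := fun M => Coh.IsCoh M
    haveI : WSerre.IsWeakSerre P := KHeartLib.isWeakSerre_isCoh (X := X)
    refine DevissLib.isCoh_of_isZero ?_
    rcases lt_or_gt_of_ne hq with h | h
    · exact DerivedCategory.isZero_of_isGE ((DerivedCategory.singleFunctor X.Modules n).obj S) n q h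
    · exact DerivedCategory.isZero_of_isLE ((DerivedCategory.singleFunctor X.Modules n).obj S) n q h

theorem isCohD₂_noeth [IsLocallyNoetherian X] {T : Triangle (DCoh.D X)} (hT : T ∈ distTriang _)
    (h₁ : DCoh.IsCohD T.obj₁) (h₃ : DCoh.IsCohD T.obj₃) : DCoh.IsCohD T.obj₂ :=
  haveI : WSerre.IsWeakSerre (fun M : X.Modules => Coh.IsCoh M) := KHeartLib.isWeakSerre_isCoh (X := X)
  Groth.Agent.DerLib.WeakSerreTri.cohIn_obj₂ (fun M : X.Modules => Coh.IsCoh M) T hT h₁ h₃

variable [IsNoetherian X]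

/-- A coherent subsheaf agreeing on `U` with a quasi-coherent sheaf that is coherent there. -/
theorem exists_coh_restrict_iso (P : X.Modules) [Coh.IsQCoh P] (hP : Coh.IsCoh (P.restrict U.ι)) :
    ∃ (G : X.Modules) (i : G ⟶ P), Coh.IsCoh G ∧
      IsIso ((Scheme.Modules.restrictFunctor U.ι).map i) := by
  haveI := hP.1
  obtain ⟨G, i, e, _, hG, hG', he⟩ := Groth.Agent.S2250.result
    (fun x => ⟨⊤, trivial, inferInstance⟩) U P (P.restrict U.ι) (𝟙 _) hP.2
  refine ⟨G, i, ⟨hG, hG'⟩, ?_⟩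
  rw [← he]
  infer_instance

/-- Hitting the cohomology on `U` in one degree by a coherent module. -/
theorem exists_hit {C : DCoh.D X} (hC : DCoh.IsQCohD C) (a n : ℤ) [C.IsGE a]
    (hn : Coh.IsCoh (DCoh.HD ((DCoh.restrictD U.ι).obj C) n)) :
    ∃ (S : X.Modules) (σ : (DerivedCategory.singleFunctor X.Modules n).obj S ⟶ C), Coh.IsCoh S ∧
      Epi ((DerivedCategory.homologyFunctor (U : Scheme.{u}).Modules n).map
        ((DCoh.restrictD U.ι).map σ)) := by
  let R := Scheme.Modules.restrictFunctor U.ι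
  let H := DerivedCategory.homologyFunctor X.Modules n
  let A := (t.truncLE n).obj C
  have hT := t.triangleLEGT_distinguished (n - 1) A
  let A' := (t.truncLE (n - 1)).obj A
  let B := (t.truncGT (n - 1)).obj A
  haveI : A.IsLE n := inferInstance
  haveI : B.IsGE n := by
    have : B.IsGE ((n - 1) + 1) := inferInstance
    rwa [sub_add_cancel] at this
  haveI : B.IsLE n := (DerivedCategory.isLE_iff _ _).2 fun q hq => by
    haveI := Groth.Agent.DerLib.Devissage.isIso_homology_truncGTπ A (n - 1) q (by omega)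
    exact (DerivedCategory.isZero_of_isLE A n q hq).of_iso
      (asIso ((DerivedCategory.homologyFunctor X.Modules q).map ((t.truncGTπ (n - 1)).app A))).symm
  obtain ⟨eB⟩ := Groth.Agent.DerLib.Devissage.nonempty_iso_single B n
  haveI := Groth.Agent.DerLib.Devissage.isIso_homology_truncGTπ A (n - 1) n (by omega)
  haveI := Groth.Agent.DerLib.Devissage.isIso_homology_truncLEι C n n le_rfl
  let c : DCoh.HD B n ≅ DCoh.HD C n :=
    (asIso (H.map ((t.truncGTπ (n - 1)).app A))).symm ≪≫ asIso (H.map ((t.truncLEι n).app C))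
  haveI := hC n
  haveI : Coh.IsQCoh (DCoh.HD B n) := QCohLib.isQCoh_of_iso c.symm
  obtain ⟨G, i, hG, hi⟩ := exists_coh_restrict_iso U (DCoh.HD B n)
    (QCohLib.isCoh_of_iso (DCohRestrLib.restrictHDIso U.ι C n ≪≫ R.mapIso c.symm) hn)
  let β : (DerivedCategory.singleFunctor X.Modules n).obj G ⟶ B :=
    (DerivedCategory.singleFunctor X.Modules n).map i ≫ eB.inv
  haveI : (A'⟦(1 : ℤ)⟧).IsGE (a - 1) := (DerivedCategory.isGE_iff _ _).2 fun q hq =>
    PerfHomLib.isZero_HD_shift (by
      by_cases h : q + 1 ≤ n - 1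
      · haveI := Groth.Agent.DerLib.Devissage.isIso_homology_truncLEι A (n - 1) (q + 1) h
        haveI := Groth.Agent.DerLib.Devissage.isIso_homology_truncLEι C n (q + 1) (by omega)
        exact (DerivedCategory.isZero_of_isGE C a (q + 1) (by omega)).of_iso
          (asIso ((DerivedCategory.homologyFunctor X.Modules (q + 1)).map ((t.truncLEι (n - 1)).app A)) ≪≫
            asIso ((DerivedCategory.homologyFunctor X.Modules (q + 1)).map ((t.truncLEι n).app C)))
      · exact DerivedCategory.isZero_of_isLE _ (n - 1) _ (by omega))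
  haveI : (A'⟦(1 : ℤ)⟧).IsLE (n - 1) := (DerivedCategory.isLE_iff _ _).2 fun q hq =>
    PerfHomLib.isZero_HD_shift (DerivedCategory.isZero_of_isLE _ (n - 1) _ (by omega))
  obtain ⟨S, p, hS, hp, hpo⟩ := exists_kill_noeth' (b := n) (a := a - 1) hG (A'⟦(1 : ℤ)⟧)
    (KFlatLib.isQCohD_shift (QRlimLib.isQCohD_truncLE (QRlimLib.isQCohD_truncLE hC n) (n - 1)) 1)
    (β ≫ ((t.triangleLEGT (n - 1)).obj A).mor₃)
  obtain ⟨ψ, hψ⟩ := Triangle.coyoneda_exact₃ _ hT
    ((DerivedCategory.singleFunctor X.Modules n).map p ≫ β) (by rw [Category.assoc]; exact hpo)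
  refine ⟨S, ψ ≫ (t.truncLEι n).app C, hS, ?_⟩
  haveI := isIso_homology_restrictD U ((t.truncLEι n).app C) n inferInstance
  haveI := isIso_homology_restrictD U ((t.truncGTπ (n - 1)).app A) n inferInstance
  let Φ := DCoh.restrictD U.ι ⋙ DerivedCategory.homologyFunctor (U : Scheme.{u}).Modules n
  change Epi (Φ.map _)
  rw [Functor.map_comp]
  haveI : IsIso (Φ.map ((t.truncLEι n).app C)) := ‹_›
  haveI : IsIso (Φ.map ((t.truncGTπ (n - 1)).app A)) := ‹_›
  suffices h : Epi (Φ.map (ψ ≫ (t.truncGTπ (n - 1)).app A)) by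
    rw [Functor.map_comp] at h
    haveI : Epi (Φ.map ψ) := by
      have := epi_comp (Φ.map ψ ≫ Φ.map ((t.truncGTπ (n - 1)).app A))
        (inv (Φ.map ((t.truncGTπ (n - 1)).app A)))
      simpa using this
    infer_instance
  have hψ' : ψ ≫ (t.truncGTπ (n - 1)).app A =
      (DerivedCategory.singleFunctor X.Modules n).map (p ≫ i) ≫ eB.inv := by
    refine hψ.symm.trans ?_
    rw [Functor.map_comp, Category.assoc]
  rw [hψ', Functor.map_comp]
  haveI := hp
  haveI := hi
  haveI : Epi (R.map (p ≫ i)) := by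
    rw [Functor.map_comp]
    infer_instance
  haveI : Epi ((DerivedCategory.singleFunctor X.Modules n ⋙ Φ).map (p ≫ i)) :=
    epi_map_of_natIso (G := R)
      (Functor.isoWhiskerLeft (DerivedCategory.singleFunctor X.Modules n)
        (Groth.Agent.DerLib.ExactHomology.homologyIso R n) ≪≫
        (Functor.associator _ _ _).symm ≪≫
        Functor.isoWhiskerRight (DerivedCategory.singleFunctorCompHomologyFunctorIso X.Modules n) R ≪≫
        Functor.leftUnitor R) (p ≫ i)
  exact epi_comp ((DerivedCategory.singleFunctor X.Modules n ⋙ Φ).map (p ≫ i)) (Φ.map eB.inv)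

/-- The stage of the descending induction: `E → C` has coherent bounded cone, and `C` vanishes on
`U` above degree `n`. -/
def Stage (E : DCoh.D X) (n : ℤ) : Prop :=
  ∃ (C Q : DCoh.D X) (α : E ⟶ C) (β : C ⟶ Q) (γ : Q ⟶ E⟦(1 : ℤ)⟧),
    Triangle.mk α β γ ∈ distTriang _ ∧ DCoh.IsQCohD C ∧ BddObj C ∧ DCoh.IsCohD Q ∧ BddObj Q ∧
      ∀ i : ℤ, n < i → IsZero (DCoh.HD ((DCoh.restrictD U.ι).obj C) i)

theorem stage_pred {E : DCoh.D X} (hE : DCoh.IsCohD ((DCoh.restrictD U.ι).obj E)) {n : ℤ}
    (h : Stage U E n) : Stage U E (n - 1) := by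
  obtain ⟨C, Q, α, β, γ, hT, hC, hCb, hQ, hQb, hz⟩ := h
  haveI : IsLocallyNoetherian (U : Scheme.{u}) := isLocallyNoetherian_of_isOpenImmersion U.ι
  let R := DCoh.restrictD U.ι
  have hCU : DCoh.IsCohD (R.obj C) :=
    isCohD₂_noeth (T := R.mapTriangle.obj (Triangle.mk α β γ)) (R.map_distinguished _ hT) hE
      (PerfDualLib.isCohD_restrictD hQ U)
  obtain ⟨a, b, ha, hb⟩ := id hCb
  obtain ⟨S, σ, hS, hσ⟩ := exists_hit U hC a n (hCU n)
  obtain ⟨C', g, h', hC'⟩ := Pretriangulated.distinguished_cocone_triangle σ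
  obtain ⟨Q', β', γ', hQ'⟩ := Pretriangulated.distinguished_cocone_triangle (α ≫ g)
  have hC'r := rot_of_distTriang _ hC'
  let o := Triangulated.someOctahedron (rfl : α ≫ g = α ≫ g) hT hC'r hQ'
  have hS1 : DCoh.IsCohD (((DerivedCategory.singleFunctor X.Modules n).obj S)⟦(1 : ℤ)⟧) :=
    haveI : WSerre.IsWeakSerre (fun M : X.Modules => Coh.IsCoh M) :=
      KHeartLib.isWeakSerre_isCoh (X := X)
    Groth.Agent.DerLib.WeakSerreTri.cohIn_shift (fun M : X.Modules => Coh.IsCoh M) _ 1
      (isCohD_single_noeth n hS)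
  have hS1b : BddObj (((DerivedCategory.singleFunctor X.Modules n).obj S)⟦(1 : ℤ)⟧) :=
    bddObj_shift (bddObj_single n S) 1
  refine ⟨C', Q', α ≫ g, β', γ', hQ',
    KFlatLib.isQCohD₂ hC'r hC (fun q => (hS1 q).1), bddObj₂ hC'r hCb hS1b,
    isCohD₂_noeth o.mem hQ hS1, bddObj₂ o.mem hQb hS1b, fun i hi => ?_⟩
  have hTU := R.map_distinguished _ hC'
  have hSz : ∀ j : ℤ, j ≠ n →
      IsZero (DCoh.HD (R.obj ((DerivedCategory.singleFunctor X.Modules n).obj S)) j) := by
    intro j hj
    refine IsZero.of_iso ?_ (DCohRestrLib.restrictHDIso U.ι _ j)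
    refine (Scheme.Modules.restrictFunctor U.ι).map_isZero ?_
    rcases lt_or_gt_of_ne hj with h | h
    · exact DerivedCategory.isZero_of_isGE ((DerivedCategory.singleFunctor X.Modules n).obj S) n j h
    · exact DerivedCategory.isZero_of_isLE ((DerivedCategory.singleFunctor X.Modules n).obj S) n j h
  refine ShortComplex.Exact.isZero_of_both_zeros
    (DerivedCategory.HomologySequence.exact₃ _ hTU i (i + 1) rfl) ?_
    ((hSz (i + 1) (by omega)).eq_of_tgt _ _)
  rcases lt_or_eq_of_le (show n ≤ i by omega) with h | h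
  · exact (hz i h).eq_of_src _ _
  · subst h
    haveI : Epi ((DerivedCategory.homologyFunctor (U : Scheme.{u}).Modules n).map
        ((R.mapTriangle.obj (Triangle.mk σ g h')).mor₁)) := hσ
    rw [← cancel_epi ((DerivedCategory.homologyFunctor (U : Scheme.{u}).Modules n).map
      ((R.mapTriangle.obj (Triangle.mk σ g h')).mor₁)), comp_zero]
    exact ((DerivedCategory.homologyFunctor (U : Scheme.{u}).Modules n).map_comp _ _).symm.trans
      ((congrArg _ (comp_distTriang_mor_zero₁₂ _ hTU)).trans (Functor.map_zero _ _ _))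

theorem stage_le {E : DCoh.D X} (hE : DCoh.IsCohD ((DCoh.restrictD U.ι).obj E)) {n : ℤ}
    (h : Stage U E n) (k : ℕ) : Stage U E (n - k) := by
  induction k with
  | zero => simpa using h
  | succ k ih =>
    rw [show n - ((k + 1 : ℕ) : ℤ) = n - (k : ℤ) - 1 by omega]
    exact stage_pred U hE ih

/-- Bounded coherent objects extend from open subschemes. -/
theorem exists_bdd_coh_extension (F : DCoh.D (U : Scheme.{u})) (hF : DCoh.IsCohD F) (a b : ℤ)
    [F.IsGE a] [F.IsLE b] :
    ∃ (G : DCoh.D X), DCoh.IsCohD G ∧ BddObj G ∧ Nonempty ((DCoh.restrictD U.ι).obj G ≅ F) := by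
  haveI := DCohRestrLib.hasRpush U.ι
  haveI : IsLocallyNoetherian (U : Scheme.{u}) := isLocallyNoetherian_of_isOpenImmersion U.ι
  haveI : WSerre.IsWeakSerre (fun M : X.Modules => Coh.IsCoh M) :=
      KHeartLib.isWeakSerre_isCoh (X := X)
  haveI : WSerre.IsWeakSerre (fun M : (U : Scheme.{u}).Modules => Coh.IsCoh M) :=
      KHeartLib.isWeakSerre_isCoh (X := (U : Scheme.{u}))
  let R := DCoh.restrictD U.ι
  obtain ⟨E, hEdef⟩ : ∃ E, E = (DCoh.Rpush U.ι).obj F := ⟨_, rfl⟩
  obtain ⟨e⟩ := nonempty_restrictD_rpush_self U F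
  rw [← hEdef] at e
  have hFq : DCoh.IsQCohD F := fun q => (hF q).1
  have hE : DCoh.IsQCohD E := hEdef ▸ QRlimLib.isQCohD_rpush U.ι hFq
  haveI : E.IsGE a := hEdef ▸ QRlimLib.rpush_isGE U.ι F a
  obtain ⟨N, hN⟩ := QRlimLib.exists_uniform_bound U.ι
  haveI : E.IsLE (b + N) := (DerivedCategory.isLE_iff _ _).2 fun q hq =>
    hEdef ▸ hN F hFq b inferInstance q (by omega)
  have hEU : DCoh.IsCohD (R.obj E) :=
    Groth.Agent.DerLib.WeakSerreTri.cohIn_of_iso (fun M : (U : Scheme.{u}).Modules => Coh.IsCoh M) e.symm hF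
  obtain ⟨n, hn1, hn2⟩ : ∃ n : ℤ, b + N ≤ n ∧ a - 2 ≤ n := ⟨_, le_max_left _ _, le_max_right _ _⟩
  have h0 : Stage U E n := by
    refine ⟨E, 0, 𝟙 E, 0, 0, contractible_distinguished E, hE, ⟨a, b + N, inferInstance, inferInstance⟩,
      fun q => DevissLib.isCoh_of_isZero
        ((DerivedCategory.homologyFunctor X.Modules q).map_isZero (isZero_zero _)),
      ⟨0, 0, t.isGE_of_isZero (isZero_zero _) 0, t.isLE_of_isZero (isZero_zero _) 0⟩, fun i hi => ?_⟩
    exact ((Scheme.Modules.restrictFunctor U.ι).map_isZero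
      (DerivedCategory.isZero_of_isLE E (b + N) i (by omega))).of_iso (DCohRestrLib.restrictHDIso U.ι E i)
  obtain ⟨C, Q, α, β, γ, hT, -, -, hQ, hQb, hz⟩ :=
    (show n - ((n - (a - 2)).toNat : ℤ) = a - 2 by omega) ▸ stage_le U hEU h0 (n - (a - 2)).toNat
  have hT' := inv_rot_of_distTriang _ hT
  let G := (Triangle.mk α β γ).invRotate.obj₁
  have hG : DCoh.IsCohD G :=
    Groth.Agent.DerLib.WeakSerreTri.cohIn_shift (fun M : X.Modules => Coh.IsCoh M) _ (-1) hQ
  obtain ⟨lo, hi, hlo, hhi⟩ : BddObj G := bddObj_shift hQb (-1)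
  let φ : R.obj G ⟶ F := R.map (Triangle.mk α β γ).invRotate.mor₁ ≫ e.hom
  have hφ : ∀ i : ℤ, a ≤ i → IsIso ((DerivedCategory.homologyFunctor _ i).map φ) := by
    intro i hi
    haveI := Groth.Agent.DerLib.Devissage.isIso_homologyMap_mor₁ _ (R.map_distinguished _ hT') i
      (hz i (by omega)) (hz (i - 1) (by omega))
    haveI : IsIso ((DerivedCategory.homologyFunctor _ i).map
        (R.map (Triangle.mk α β γ).invRotate.mor₁)) := this
    rw [Functor.map_comp]
    infer_instance
  have hS := t.triangleLEGT_distinguished (a - 1) G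
  haveI : (R.obj ((t.truncLE (a - 1)).obj G)).IsLE (a - 1) := (DerivedCategory.isLE_iff _ _).2 fun q hq =>
    ((Scheme.Modules.restrictFunctor U.ι).map_isZero
      (DerivedCategory.isZero_of_isLE _ (a - 1) q hq)).of_iso (DCohRestrLib.restrictHDIso U.ι _ q)
  obtain ⟨g, hg⟩ := Triangle.yoneda_exact₂ _ (R.map_distinguished _ hS) φ
    (t.zero_of_isLE_of_isGE (X := R.obj ((t.truncLE (a - 1)).obj G)) _ (a - 1) a (by omega)
      ‹(R.obj ((t.truncLE (a - 1)).obj G)).IsLE (a - 1)› ‹F.IsGE a›)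
  let G₁ := (t.truncGT (a - 1)).obj G
  haveI : (R.obj G₁).IsGE a := (DerivedCategory.isGE_iff _ _).2 fun q hq =>
    ((Scheme.Modules.restrictFunctor U.ι).map_isZero
      (DerivedCategory.isZero_of_isGE G₁ ((a - 1) + 1) q (by omega))).of_iso
        (DCohRestrLib.restrictHDIso U.ι _ q)
  have hg' : IsIso g := by
    rw [DerivedCategory.isIso_iff]
    intro i
    by_cases hi : a ≤ i
    · haveI := hφ i hi
      haveI := Groth.Agent.DerLib.Devissage.isIso_homology_truncGTπ G (a - 1) i (by omega)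
      haveI := isIso_homology_restrictD U ((t.truncGTπ (a - 1)).app G) i inferInstance
      refine IsIso.of_isIso_fac_left (f := (DerivedCategory.homologyFunctor _ i).map
        (R.map ((t.truncGTπ (a - 1)).app G)))
        (h := (DerivedCategory.homologyFunctor _ i).map φ) ?_
      rw [hg, Functor.map_comp]
      rfl
    · exact ⟨0, (DerivedCategory.isZero_of_isGE (R.obj G₁) a i (by omega)).eq_of_src _ _,
        (DerivedCategory.isZero_of_isGE F a i (by omega)).eq_of_src _ _⟩
  refine ⟨G₁, fun q => ?_, ⟨(a - 1) + 1, hi, inferInstance, ?_⟩, ⟨@asIso _ _ _ _ g hg'⟩⟩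
  · by_cases hq : a - 1 < q
    · haveI := Groth.Agent.DerLib.Devissage.isIso_homology_truncGTπ G (a - 1) q hq
      exact QCohLib.isCoh_of_iso
        (asIso ((DerivedCategory.homologyFunctor X.Modules q).map ((t.truncGTπ (a - 1)).app G))) (hG q)
    · exact DevissLib.isCoh_of_isZero
        (DerivedCategory.isZero_of_isGE G₁ ((a - 1) + 1) q (by omega))
  · exact (DerivedCategory.isLE_iff _ _).2 fun q hq => by
      by_cases hq' : a - 1 < q
      · haveI := Groth.Agent.DerLib.Devissage.isIso_homology_truncGTπ G (a - 1) q hq'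
        exact (DerivedCategory.isZero_of_isLE G hi q hq).of_iso
          (asIso ((DerivedCategory.homologyFunctor X.Modules q).map ((t.truncGTπ (a - 1)).app G))).symm
      · exact DerivedCategory.isZero_of_isGE G₁ ((a - 1) + 1) q (by omega)

end KiehlLib
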