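import Groth.Agent.KiehlLib.Supp
import Groth.Agent.PerfDualLib.PseudoC
import Groth.Agent.DerBCLib.LocQ
import Groth.Agent.KFlatLib.LpullAdj
import Groth.Agent.DevissLib.ClosedImm
import Groth.Prelude.Def_KLin

/-!
# Finiteness of Hom groups in the derived category over a proper scheme
-/

set_option autoImplicit false
set_option backward.isDefEq.respectTransparency false
set_option backward.isDefEq.respectTransparency.types false
set_option maxHeartbeats 1000000
set_option synthInstance.maxHeartbeats 200000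
set_option linter.style.haveILetI false

universe u

open CategoryTheory CategoryTheory.Limits CategoryTheory.Pretriangulated AlgebraicGeometry
open Groth.Agent
open DerivedCategory.TStructure (t)

attribute [local instance] HasDerivedCategory.standard

namespace KiehlLib

variable {A : Type u} [CommRing A]

/-- The middle term of an exact sequence of finite modules is finite. -/
theorem finite_of_exact [IsNoetherianRing A] {M N P : Type*} [AddCommGroup M] [Module A M]
    [AddCommGroup N] [Module A N] [AddCommGroup P] [Module A P] [Module.Finite A M]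
    [Module.Finite A P] (f : M →ₗ[A] N) (g : N →ₗ[A] P) (h : ∀ x, g x = 0 → ∃ y, f y = x) :
    Module.Finite A N := by
  refine ⟨Submodule.fg_of_fg_map_of_fg_inf_ker g (IsNoetherian.noetherian _) ?_⟩
  rw [top_inf_eq]
  have hle : LinearMap.ker g ≤ LinearMap.range f := fun x hx => LinearMap.mem_range.2 (h x hx)
  exact Submodule.FG.of_le (Module.Finite.fg_top.map f |> fun hfg => by rwa [Submodule.map_top] at hfg) hle

/-- A surjection of Hom modules out of a finite one. -/
theorem finite_homCongr {C : Type*} [Category* C] [Preadditive C] [Linear A C] {X X' Y Y' : C}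
    (e₁ : X ≅ X') (e₂ : Y ≅ Y') [Module.Finite A (X ⟶ Y)] : Module.Finite A (X' ⟶ Y') :=
  Module.Finite.equiv (Linear.homCongr A e₁ e₂)

section Affine

noncomputable local instance overSelf : (Spec (CommRingCat.of A)).Over (Spec (CommRingCat.of A)) :=
  ⟨𝟙 _⟩

theorem finite_hom_unit [IsNoetherianRing A] (M : (Spec (CommRingCat.of A)).Modules)
    (hM : Coh.IsCoh M) :
    Module.Finite A (Coh.structureModule (Spec (CommRingCat.of A)) ⟶ M) := by
  let S := Spec (CommRingCat.of A)
  let τ : A →+* Γ(S, ⊤) := Coh.toGlobal (S ↘ Spec (CommRingCat.of A))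
  let σ : Γ(S, ⊤) →+* A := (Scheme.ΓSpecIso (CommRingCat.of A)).hom.hom
  letI : Module A Γ(M, ⊤) := Module.compHom _ τ
  have h0 : (S ↘ Spec (CommRingCat.of A)) = 𝟙 _ := rfl
  have hτσ : ∀ r, τ (σ r) = r := fun r => by
    simp [τ, σ, Coh.toGlobal, h0, S]
  haveI : RingHomSurjective σ :=
    ⟨fun a => ⟨τ a, by simp [τ, σ, Coh.toGlobal, h0, S]⟩⟩
  haveI := hM.1
  haveI : Module.Finite Γ(S, ⊤) Γ(M, ⊤) := QCohLib.finite_of_isFT hM.2 (isAffineOpen_top S)
  let idσ : Γ(M, ⊤) →ₛₗ[σ] Γ(M, ⊤) :=
    { toFun := id, map_add' := fun _ _ => rfl,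
      map_smul' := fun r m => by change r • m = τ (σ r) • m; rw [hτσ] }
  haveI : Module.Finite A Γ(M, ⊤) := Module.Finite.of_surjective idσ Function.surjective_id
  let ev : (Coh.structureModule S ⟶ M) →ₗ[A] Γ(M, ⊤) :=
    { toFun := fun φ => KFlatLib.unitSecEquiv M φ
      map_add' := fun φ ψ => rfl
      map_smul' := fun a φ => by
        change KFlatLib.unitSecEquiv M (a • φ) = τ a • KFlatLib.unitSecEquiv M φ
        have h1 : a • φ = φ ≫ (a • 𝟙 M) := by rw [Linear.comp_smul, Category.comp_id]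
        rw [h1, KFlatLib.unitSecEquiv_comp]
        refine (KLin.smul_app_apply a (𝟙 M) ⊤ _).trans ?_
        simp [τ, S]
        rfl }
  exact Module.Finite.of_injective ev (KFlatLib.unitSecEquiv M).injective

theorem hom_unit_shift_eq_zero [IsNoetherianRing A] (M : (Spec (CommRingCat.of A)).Modules)
    (hM : Coh.IsQCoh M) (k : ℕ)
    (φ : DCoh.inD _ (Coh.structureModule (Spec (CommRingCat.of A))) ⟶ (DCoh.inD _ M)⟦((k : ℤ) + 1)⟧) :
    φ = 0 := by
  let S := Spec (CommRingCat.of A)
  have hO : Coh.IsCoh (Coh.structureModule S) := DevissLib.isCoh_structureModule S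
  obtain ⟨S', p, hS', hp, h⟩ := exists_kill_single (fun _ _ hV hW => hV.inf hW) k _ hO M hM φ
  haveI := hS'.1
  haveI := hO.1
  haveI : Coh.IsQCoh (kernel p) := QCohLib.isQCoh_kernel p
  obtain ⟨s, hs⟩ := QCohLib.app_surjective_of_affine
    (S := ShortComplex.mk (kernel.ι p) p (kernel.condition p))
    ⟨ShortComplex.exact_of_f_is_kernel _ (kernelIsKernel p)⟩ (isAffineOpen_top S)
    (KFlatLib.unitSecEquiv _ (𝟙 _))
  have hσ : (KFlatLib.unitSecEquiv S').symm s ≫ p = 𝟙 _ := by
    apply (KFlatLib.unitSecEquiv _).injective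
    rw [KFlatLib.unitSecEquiv_comp, Equiv.apply_symm_apply]
    exact hs
  rw [← Category.id_comp φ, ← (DerivedCategory.singleFunctor S.Modules 0).map_id, ← hσ,
    Functor.map_comp, Category.assoc, h, comp_zero]

/-- The unit complex in `D(S)`. -/
noncomputable abbrev uD (X : Scheme.{u}) : DCoh.D X :=
  (DerivedCategory.singleFunctor X.Modules 0).obj (Coh.structureModule X)

theorem finite_hom_uD [IsNoetherianRing A] (k : ℕ) : ∀ (a : ℤ), 1 ≤ a + k →
    ∀ (W : DCoh.D (Spec (CommRingCat.of A))), DCoh.IsCohD W → W.IsGE a →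
      Module.Finite A (uD (Spec (CommRingCat.of A)) ⟶ W) := by
  let S := Spec (CommRingCat.of A)
  induction k with
  | zero =>
    intro a ha W _ hWa
    haveI : Subsingleton (uD S ⟶ W) := subsingleton_of_forall_eq 0 fun φ =>
      t.zero_of_isLE_of_isGE φ 0 a (by omega) inferInstance hWa
    infer_instance
  | succ k ih =>
    intro a ha W hW hWa
    haveI := hWa
    have hT := t.triangleLEGT_distinguished a W
    let L := (t.truncLE a).obj W
    let G := (t.truncGT a).obj W
    haveI : L.IsLE a := inferInstance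
    haveI : L.IsGE a := inferInstance
    haveI hGge : G.IsGE (a + 1) := inferInstance
    have hG : DCoh.IsCohD G := fun j => by
      by_cases hj : a < j
      · haveI := Groth.Agent.DerLib.Devissage.isIso_homology_truncGTπ W a j hj
        exact QCohLib.isCoh_of_iso
          (asIso ((DerivedCategory.homologyFunctor S.Modules j).map ((t.truncGTπ a).app W))) (hW j)
      · exact DevissLib.isCoh_of_isZero (DerivedCategory.isZero_of_isGE G (a + 1) j (by omega))
    haveI := ih (a + 1) (by omega) G hG hGge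
    haveI : Module.Finite A (uD S ⟶ L) := by
      obtain ⟨M, ⟨eM⟩⟩ := DerivedCategory.exists_iso_singleFunctor_obj_of_isGE_of_isLE L a
      have hM : Coh.IsCoh M := by
        haveI := Groth.Agent.DerLib.Devissage.isIso_homology_truncLEι W a a le_rfl
        refine QCohLib.isCoh_of_iso ?_ (hW a)
        exact (asIso ((DerivedCategory.homologyFunctor S.Modules a).map ((t.truncLEι a).app W))).symm ≪≫
          (DerivedCategory.homologyFunctor S.Modules a).mapIso eM ≪≫
          (DerivedCategory.singleFunctorCompHomologyFunctorIso S.Modules a).app M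
      rcases lt_trichotomy a 0 with h0 | h0 | h0
      · let k' : ℕ := (-a - 1).toNat
        let e : (DCoh.inD S M)⟦((k' : ℤ) + 1)⟧ ≅ L :=
          ((DerivedCategory.singleFunctors S.Modules).shiftIso ((k' : ℤ) + 1) a 0 (by omega)).app M ≪≫
            eM.symm
        haveI : Subsingleton (uD S ⟶ L) := subsingleton_of_forall_eq 0 fun φ => by
          rw [← cancel_mono e.inv, zero_comp]
          exact hom_unit_shift_eq_zero M hM.1 k' _
        infer_instance
      · subst h0
        haveI := finite_hom_unit M hM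
        let l : (Coh.structureModule S ⟶ M) →ₗ[A] (uD S ⟶ (DerivedCategory.singleFunctor S.Modules 0).obj M) :=
          (DerivedCategory.singleFunctor S.Modules 0).mapLinearMap A
        haveI : Module.Finite A (uD S ⟶ (DerivedCategory.singleFunctor S.Modules 0).obj M) :=
          Module.Finite.of_surjective l
            (DerivedCategory.singleFunctor S.Modules 0).map_surjective
        exact finite_homCongr (Iso.refl _) eM.symm
      · haveI : Subsingleton (uD S ⟶ L) := subsingleton_of_forall_eq 0 fun φ =>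
          t.zero_of_isLE_of_isGE φ 0 a h0 inferInstance inferInstance
        infer_instance
    refine finite_of_exact (Linear.rightComp A (uD S) ((t.truncLEι a).app W))
      (Linear.rightComp A (uD S) ((t.truncGTπ a).app W)) fun x hx => ?_
    obtain ⟨y, hy⟩ := Triangle.coyoneda_exact₂ _ hT x hx
    exact ⟨y, hy.symm⟩

theorem finite_hom_uD' [IsNoetherianRing A] (W : DCoh.D (Spec (CommRingCat.of A)))
    (hW : DCoh.IsCohD W) (a : ℤ) [W.IsGE a] :
    Module.Finite A (uD (Spec (CommRingCat.of A)) ⟶ W) :=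
  finite_hom_uD ((1 - a).toNat) a (by omega) W hW inferInstance

end Affine

section Pull

variable {X Y : Scheme.{u}} [X.Over (Spec (CommRingCat.of A))] [Y.Over (Spec (CommRingCat.of A))]
  (f : X ⟶ Y) [f.IsOver (Spec (CommRingCat.of A))]

theorem pullback_map_smul_id (M : Y.Modules) (a : A) :
    (Scheme.Modules.pullback f).map (a • 𝟙 M) = a • 𝟙 ((Scheme.Modules.pullback f).obj M) := by
  apply ((Scheme.Modules.pullbackPushforwardAdjunction f).homEquiv _ _).injective
  rw [Adjunction.homEquiv_unit, Adjunction.homEquiv_unit]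
  refine ((Scheme.Modules.pullbackPushforwardAdjunction f).unit.naturality (a • 𝟙 M)).symm.trans ?_
  have hp : (Scheme.Modules.pushforward f).map (a • 𝟙 ((Scheme.Modules.pullback f).obj M)) =
      a • 𝟙 _ := by rw [Functor.map_smul, CategoryTheory.Functor.map_id]
  erw [hp]
  simp [Linear.smul_comp, Linear.comp_smul]

theorem pullCx_map_smul_id (K : CochainComplex Y.Modules ℤ) (a : A) :
    (KFlatLib.pullCx f).map (a • 𝟙 K) = a • 𝟙 ((KFlatLib.pullCx f).obj K) := by
  ext1 n
  exact pullback_map_smul_id f (K.X n) a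

/-- `Lf^* O ≅ O`. -/
noncomputable def lpullUnitIso [DCoh.HasLpull f] :
    (DCoh.Lpull f).obj (DerivedCategory.Q.obj (PerfDualLib.unitCx Y)) ≅
      DerivedCategory.Q.obj (PerfDualLib.unitCx X) :=
  KFlatLib.lpullObjIso f _
      (KFlatLib.isKFlat_of_isStrictlyPerfect (PerfDualLib.isStrictlyPerfect_unitCx Y)) ≪≫
    DerivedCategory.Q.mapIso
      ((HomologicalComplex.singleMapHomologicalComplex (Scheme.Modules.pullback f)
          (ComplexShape.up ℤ) 0).app _ ≪≫
        (HomologicalComplex.single X.Modules (ComplexShape.up ℤ) 0).mapIso (KFlatLib.pullUnitIso f))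

theorem lpull_map_smul_id [DCoh.HasLpull f] (K : CochainComplex Y.Modules ℤ) (hK : DCoh.IsKFlat K)
    (a : A) :
    (DCoh.Lpull f).map (a • 𝟙 (DerivedCategory.Q.obj K)) =
      a • 𝟙 ((DCoh.Lpull f).obj (DerivedCategory.Q.obj K)) := by
  rw [← cancel_mono (KFlatLib.lpullObjIso f K hK).hom]
  have h := KFlatLib.leftDerivedObjIso_natural (KFlatLib.preservesKFlatQis_pull f) hK hK (a • 𝟙 K)
  rw [Functor.map_smul, CategoryTheory.Functor.map_id] at h
  refine h.trans ?_
  rw [pullCx_map_smul_id, Functor.map_smul, CategoryTheory.Functor.map_id, Linear.comp_smul,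
    Linear.smul_comp, Category.id_comp]
  exact congrArg (a • ·) (Category.comp_id _)

/-- Finiteness passes along `Hom(O_Y, Rf_* Z) ≅ Hom(O_X, Z)`. -/
theorem finite_hom_of_rpush (Z : DCoh.D X) [DCoh.HasLpull f] [DCoh.HasRpush f]
    [Module.Finite A (DerivedCategory.Q.obj (PerfDualLib.unitCx Y) ⟶ (DCoh.Rpush f).obj Z)] :
    Module.Finite A (DerivedCategory.Q.obj (PerfDualLib.unitCx X) ⟶ Z) := by
  obtain ⟨_, _⟩ := QRlimLib.exists_isTriangulated_rpush f
  let adj := KFlatLib.lpullRpushAdj f
  haveI : (DCoh.Lpull f).Additive := adj.left_adjoint_additive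
  let u := DerivedCategory.Q.obj (PerfDualLib.unitCx Y)
  let e := lpullUnitIso f
  let l : (u ⟶ (DCoh.Rpush f).obj Z) →ₗ[A]
      (DerivedCategory.Q.obj (PerfDualLib.unitCx X) ⟶ Z) :=
    { toFun := fun ψ => e.inv ≫ (DCoh.Lpull f).map ψ ≫ adj.counit.app Z
      map_add' := fun ψ ψ' => by simp
      map_smul' := fun a ψ => by
        have h1 : a • ψ = (a • 𝟙 u) ≫ ψ := by rw [Linear.smul_comp, Category.id_comp]
        rw [h1, Functor.map_comp, lpull_map_smul_id f _
          (KFlatLib.isKFlat_of_isStrictlyPerfect (PerfDualLib.isStrictlyPerfect_unitCx Y))]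
        simp [Linear.smul_comp, Linear.comp_smul] }
  refine Module.Finite.of_surjective l fun φ => ⟨adj.homEquiv _ _ (e.hom ≫ φ), ?_⟩
  change e.inv ≫ (DCoh.Lpull f).map _ ≫ adj.counit.app Z = φ
  rw [show (DCoh.Lpull f).map ((adj.homEquiv u Z) (e.hom ≫ φ)) ≫ adj.counit.app Z =
      (adj.homEquiv u Z).symm ((adj.homEquiv u Z) (e.hom ≫ φ)) from (Adjunction.homEquiv_counit adj _ _ _).symm,
    Equiv.symm_apply_apply, Iso.inv_hom_id_assoc]

end Pull

section Tensor

open PerfDualLib

variable {X : Scheme.{u}} [X.Over (Spec (CommRingCat.of A))]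

theorem tensorBi_map_smul_id (M N : X.Modules) (a : A) :
    ((DCoh.tensorBi (X := X)).map (a • 𝟙 M)).app N = a • 𝟙 (((DCoh.tensorBi (X := X)).obj M).obj N) := by
  refine KFlatLib.tens_hom_ext fun U m n => ?_
  have h := KFlatLib.tensorBi_map_shApp (a • 𝟙 M) (𝟙 N) U m n
  rw [CategoryTheory.Functor.map_id, Category.comp_id] at h
  refine h.trans ?_
  rw [KLin.smul_app_apply]
  erw [KLin.smul_app_apply]
  exact DerBCLib.shTm_smul_left M N U _ m n

theorem tR_map_smul_id (K N : Cx X) (a : A) :
    (Gen.tR (Tb X) K).map (a • 𝟙 N) = a • 𝟙 ((Gen.tR (Tb X) K).obj N) := by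
  refine HomologicalComplex.hom_ext _ _ fun n => HomologicalComplex.mapBifunctor.hom_ext fun p q h => ?_
  change _ ≫ (HomologicalComplex.mapBifunctorMap (a • 𝟙 N) (𝟙 K) (Tb X) _).f n = _
  rw [HomologicalComplex.ι_mapBifunctorMap]
  simp [tensorBi_map_smul_id, Linear.smul_comp, Linear.comp_smul]
  exact congrArg (a • ·) (Category.comp_id _).symm

/-- Finiteness passes along `Hom(O, Hom(K, I)) ≅ Hom(K, I)`. -/
theorem finite_hom_of_iG {K : Cx X} (hK : DCoh.IsKFlat K) (I : Cx X) [I.IsKInjective]
    [Module.Finite A (DerivedCategory.Q.obj (unitCx X) ⟶ DerivedCategory.Q.obj (iG K I))] :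
    Module.Finite A (DerivedCategory.Q.obj K ⟶ DerivedCategory.Q.obj I) := by
  haveI := isKInjective_iG hK I
  let κ : (Gen.tR (Tb X) K).obj (unitCx X) ≅ K := bX (unitCx X) K ≪≫ unitNat.app K
  haveI : (Gen.tR (Tb X) K).Additive := KFlatLib.additive_bimap₁ (Tb X) K
  let Φ : (unitCx X ⟶ iG K I) →ₗ[A] (DerivedCategory.Q.obj K ⟶ DerivedCategory.Q.obj I) :=
    { toFun := fun ψ => DerivedCategory.Q.map (κ.inv ≫ Gen.adjunct ψ)
      map_add' := fun ψ ψ' => by
        rw [← Functor.map_add, ← Preadditive.comp_add]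
        congr 2
        exact map_add ((Gen.gAdj (Tb X) K).homAddEquiv _ _).symm ψ ψ'
      map_smul' := fun a ψ => by
        have h1 : a • ψ = (a • 𝟙 (unitCx X)) ≫ ψ := by rw [Linear.smul_comp, Category.id_comp]
        rw [h1, Gen.adjunct_comp, tR_map_smul_id, Linear.smul_comp, Category.id_comp,
          Linear.comp_smul, Functor.map_smul]
        rfl }
  let P : (unitCx X ⟶ iG K I) →ₗ[A] (DerivedCategory.Q.obj (unitCx X) ⟶ DerivedCategory.Q.obj (iG K I)) :=
    DerivedCategory.Q.mapLinearMap A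
  have hP : Function.Surjective P := DerLib.KInjUse.Q_map_surjective _ _
  have hker : LinearMap.ker P ≤ LinearMap.ker Φ := fun ψ hψ => by
    obtain ⟨hh⟩ := Gen.nonempty_adjunct_null ψ (HomotopyCategory.homotopyOfEq _ 0
      ((DerLib.KInjUse.quotient_eq_zero_of_Q (LinearMap.mem_ker.1 hψ)).trans
        ((HomotopyCategory.quotient _ _).map_zero _ _).symm))
    change DerivedCategory.Q.map (κ.inv ≫ Gen.adjunct ψ) = 0
    rw [Functor.map_comp, DerLib.KInjUse.Q_map_zero_of_quotient
      ((HomotopyCategory.eq_of_homotopy _ _ hh).trans ((HomotopyCategory.quotient _ _).map_zero _ _)),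
      comp_zero]
  haveI : Module.Finite A ((unitCx X ⟶ iG K I) ⧸ LinearMap.ker P) :=
    Module.Finite.equiv (P.quotKerEquivOfSurjective hP).symm
  refine Module.Finite.of_surjective (Submodule.liftQ _ Φ hker) fun g => ?_
  obtain ⟨g', rfl⟩ := DerLib.KInjUse.Q_map_surjective _ _ g
  refine ⟨Submodule.Quotient.mk ((Gen.gAdj (Tb X) K).homEquiv _ _ (κ.hom ≫ g')), ?_⟩
  change DerivedCategory.Q.map (κ.inv ≫ Gen.adjunct _) = _
  rw [Gen.adjunct, Equiv.symm_apply_apply, Iso.inv_hom_id_assoc]

end Tensor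

/-- `Hom(K, L)` is finite for `K` bounded above and `L` bounded below, both coherent, on a proper
scheme over a Noetherian ring. -/
theorem finite_hom_of_proper [IsNoetherianRing A] {X : Scheme.{u}} [X.Over (Spec (CommRingCat.of A))]
    [IsProper (X ↘ Spec (CommRingCat.of A))] (K L : DCoh.D X) (hK : DCoh.IsCohD K)
    (b : ℤ) [K.IsLE b] (hL : DCoh.IsCohD L) (a : ℤ) [L.IsGE a] : Module.Finite A (K ⟶ L) := by
  let S := Spec (CommRingCat.of A)
  letI : S.Over S := ⟨𝟙 _⟩
  let f : X ⟶ S := X ↘ S
  haveI : f.IsOver S := ⟨Category.comp_id _⟩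
  haveI : IsLocallyNoetherian X := LocallyOfFiniteType.isLocallyNoetherian f
  haveI : CompactSpace ↥X := QuasiCompact.compactSpace_of_compactSpace f
  haveI : IsNoetherian X := {}
  obtain ⟨K₀, -, hK₀, ⟨eK⟩⟩ := exists_flat_rep K b
  obtain ⟨I, hI, ⟨eI⟩⟩ := DerLib.KInjUse.exists_iso_Q_kInjective L
  haveI : (DerivedCategory.Q.obj I).IsGE a := t.isGE_of_iso eI a
  haveI : (DerivedCategory.Q.obj K₀).IsLE b := t.isLE_of_iso eK.symm b
  let Z := DerivedCategory.Q.obj (PerfDualLib.iG K₀ I)
  have hZc : DCoh.IsCohD Z := fun i => by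
    haveI := fun U : X.Opens => isLocallyNoetherian_of_isOpenImmersion U.ι
    haveI := fun U : X.Opens => KHeartLib.isWeakSerre_isCoh (X := (U : Scheme.{u}))
    have hpc : DCoh.IsPseudoCoherentD (a - i - 1) (DerivedCategory.Q.obj K₀) :=
      PerfLib.isPC_of_iso eK.symm (PerfNoethLib.isPC_of_coherent (fun j _ => hK j) (b := b))
    choose U hU hq using PerfDualLib.prop_gRes_of_isPC
      (fun U => fun M : (U : Scheme.{u}).Modules => Coh.IsCoh M) hpc I a
      fun U => (PerfDualLib.triClosed_isCohD U).iso ((DCoh.restrictD U.ι).mapIso eI)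
        (PerfDualLib.isCohD_restrictD hL U)
    exact PerfLib.isCoh_of_cover _ U
      (eq_top_iff.2 fun p _ => TopologicalSpace.Opens.mem_iSup.2 ⟨p, hU p⟩)
      fun p => QCohLib.isCoh_of_iso (DCohRestrLib.restrictHDIso (U p).ι Z i) (hq p i (by omega))
  haveI : Z.IsGE (a - b) := by
    rw [DerivedCategory.isGE_iff]
    intro i hi
    refine IsZero.of_iso ?_ ((DerivedCategory.homologyFunctorFactors _ i).app _)
    refine (KFlatLib.isZero_homology_iff _ i).2 fun x => ?_
    refine PerfDualLib.isZero_stalk_homology_iG (U := ⊤) I a (b + 1) (fun y _ n hn => ?_)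
      (x := x) trivial i (by omega)
    refine (KFlatLib.isZero_homology_iff _ n).1 ?_ y
    exact (DerivedCategory.isZero_of_isLE (DerivedCategory.Q.obj K₀) b n (by omega)).of_iso
      ((DerivedCategory.homologyFunctorFactors _ n).app K₀).symm
  haveI := DCohRestrLib.hasRpush f
  haveI := KFlatLib.hasLpull f
  haveI : ((DCoh.Rpush f).obj Z).IsGE (a - b) := QRlimLib.rpush_isGE f Z (a - b)
  haveI := finite_hom_uD' ((DCoh.Rpush f).obj Z) (isCohD_rpush_proper f Z hZc) (a - b)
  haveI : Module.Finite A (DerivedCategory.Q.obj (PerfDualLib.unitCx S) ⟶ (DCoh.Rpush f).obj Z) :=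
    finite_homCongr (A := A) ((DerivedCategory.singleFunctorIsoCompQ S.Modules 0).app _) (Iso.refl ((DCoh.Rpush f).obj Z))
  haveI := finite_hom_of_rpush (A := A) f Z
  haveI := finite_hom_of_iG (A := A) hK₀ I
  exact finite_homCongr eK eI.symm

end KiehlLib
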