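import Groth.Agent.PerfBaseLib.FlatProper
import Groth.Agent.S0889
import Groth.Agent.PerfNoethLib.PCCoh
import Groth.Agent.PerfLib.PCohSummand
import Groth.Agent.QRlimLib.Unbounded
import Groth.Agent.KFlatLib.TorAmpMore
import Groth.Agent.PerfHomLib.Trunc

/-!
# Twisted bounded above objects: bounds, coherence, coherent direct images
-/

set_option autoImplicit false
set_option backward.isDefEq.respectTransparency false
set_option backward.isDefEq.respectTransparency.types false
set_option maxHeartbeats 1000000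
set_option synthInstance.maxHeartbeats 200000
set_option linter.style.haveILetI false

universe u

open CategoryTheory CategoryTheory.Limits CategoryTheory.Pretriangulated AlgebraicGeometry HomologicalComplex
open Groth.Agent
open DerivedCategory.TStructure (t)

attribute [local instance] HasDerivedCategory.standard

namespace KiehlLib

variable {X S : Scheme.{u}}

/-- Transport of twists along an isomorphism of the twisting module. -/
noncomputable def tensRightNatIso {M N : X.Modules} (e : M ≅ N) :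
    DCoh.tensorRightMod M ≅ DCoh.tensorRightMod N :=
  Functor.isoWhiskerLeft DCoh.toP (Functor.isoWhiskerRight
    ((MonoidalCategory.tensoringRight (CohB1.PMod X)).mapIso
      ((Scheme.Modules.toPresheafOfModules X).mapIso e)) DCoh.shP)

/-- A representing complex of flat modules with the same upper bound. -/
theorem exists_flat_rep (K : DCoh.D X) (b : ℤ) [K.IsLE b] :
    ∃ L : CochainComplex X.Modules ℤ, (∀ i, b < i → IsZero (L.X i)) ∧ DCoh.IsKFlat L ∧
      Nonempty (DCoh.toD X L ≅ K) := by
  obtain ⟨C, hC, ⟨e⟩⟩ := DerivedCategory.exists_iso_Q_obj_of_isLE K b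
  obtain ⟨L, α, hLb, hLf, hα⟩ := KFlatLib.exists_flat_resolution C b
    fun j hj => C.isZero_of_isStrictlyLE b j hj
  haveI : IsIso (DerivedCategory.Q.map α) := inferInstance
  exact ⟨L, hLb, KFlatLib.isKFlat_of_bounded_flat_mod L b hLb hLf,
    ⟨asIso (DerivedCategory.Q.map α) ≪≫ e.symm⟩⟩

/-- Derived twists keep upper bounds. -/
theorem isLE_lTensorMod (G : X.Modules) [DCoh.HasLTensorMod G] (K : DCoh.D X) (b : ℤ) [K.IsLE b] :
    ((DCoh.LTensorMod G).obj K).IsLE b := by
  obtain ⟨L, hLb, hL, ⟨e⟩⟩ := exists_flat_rep K b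
  refine (DerivedCategory.isLE_iff _ _).2 fun i hi => ?_
  refine (KFlatLib.isZero_HD_iff ((KFlatLib.lTensorModObjIso G L hL).symm ≪≫
    (DCoh.LTensorMod G).mapIso e) i).2 ?_
  exact (HomologicalComplex.exactAt_iff_isZero_homology _ _).1
    (ShortComplex.exact_of_isZero_X₂ _ ((DCoh.tensorRightMod G).map_isZero (hLb i hi)))

/-- Derived twists preserve quasi-coherence of cohomology. -/
theorem isQCohD_lTensorMod (G : X.Modules) [DCoh.HasLTensorMod G] (hG : Coh.IsQCoh G) (K : DCoh.D X)
    (b : ℤ) [K.IsLE b] (hK : DCoh.IsQCohD K) : DCoh.IsQCohD ((DCoh.LTensorMod G).obj K) := by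
  obtain ⟨L, -, hL, ⟨e⟩⟩ := exists_flat_rep K b
  haveI := hG
  exact KFlatLib.isQCohD_iso ((KFlatLib.lTensorModObjIso G L hL).symm ≪≫ (DCoh.LTensorMod G).mapIso e)
    (DerBCLib.isQCohD_tensorMod hL (KFlatLib.isQCohD_iso e.symm hK) G)

/-- A module in degree `b`. -/
theorem isQCohD_single (M : X.Modules) (hM : Coh.IsQCoh M) (b : ℤ) :
    DCoh.IsQCohD ((DerivedCategory.singleFunctor X.Modules b).obj M) := by
  intro i
  by_cases hi : i = b
  · subst hi
    exact @QCohLib.isQCoh_of_iso _ _ _
      ((DerivedCategory.singleFunctorCompHomologyFunctorIso X.Modules i).app M).symm hM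
  · exact KFlatLib.isQCoh_zero (by
      rcases lt_or_gt_of_ne hi with h | h
      · exact DerivedCategory.isZero_of_isGE _ b i h
      · exact DerivedCategory.isZero_of_isLE _ b i h)

/-- A coherent module in degree `b` is pseudo-coherent over a Noetherian scheme. -/
theorem isPC_single [IsLocallyNoetherian X] (M : X.Modules) (hM : Coh.IsCoh M) (b m : ℤ) :
    DCoh.IsPseudoCoherentD m ((DerivedCategory.singleFunctor X.Modules b).obj M) := by
  refine PerfNoethLib.isPC_of_coherent (b := b) fun i _ => ?_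
  by_cases hi : i = b
  · subst hi
    exact QCohLib.isCoh_of_iso
      ((DerivedCategory.singleFunctorCompHomologyFunctorIso X.Modules i).app M).symm hM
  · exact DevissLib.isCoh_of_isZero (by
      rcases lt_or_gt_of_ne hi with h | h
      · exact DerivedCategory.isZero_of_isGE _ b i h
      · exact DerivedCategory.isZero_of_isLE _ b i h)

/-- Twists of pseudo-coherent objects by coherent modules have coherent cohomology. -/
theorem isCohD_tensorMod_pc [IsLocallyNoetherian X] {P : CochainComplex X.Modules ℤ}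
    (hP : DCoh.IsKFlat P) (hpc : ∀ m, DCoh.IsPseudoCoherentD m (DCoh.toD X P)) {G : X.Modules}
    (hG : Coh.IsCoh G) : DCoh.IsCohD (DCoh.toD X ((KFlatLib.tensorModCx G).obj P)) := by
  intro i
  refine QCohLib.isCoh_of_iso (KFlatLib.hdToD _ i).symm ?_
  have h : ∀ x : X, ∃ V : X.Opens, x ∈ V ∧
      Coh.IsCoh ((((KFlatLib.tensorModCx G).obj P).homology i).restrict V.ι) := fun x => by
    obtain ⟨V, hx, hV⟩ := hpc (i - 1) x
    obtain ⟨E, α, hE, hα₁, hα₂⟩ := hV P ⟨Iso.refl _⟩
    refine ⟨V, hx, ?_⟩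
    let GV := (Scheme.Modules.pullback V.ι).obj G
    have hGV : Coh.IsCoh GV := QCohLib.isCoh_of_iso ((Scheme.Modules.restrictFunctorIsoPullback V.ι).app G)
      (haveI := hG.1; ⟨Groth.Agent.PerfDualLib.isQCoh_restrict G V, RpushLib.isFT_restrict hG.2 V⟩)
    have hPV : DCoh.IsKFlat ((KFlatLib.pullCx V.ι).obj P) := KFlatLib.isKFlat_pull _ hP
    haveI := KFlatLib.hasLTensorMod GV
    let β : DCoh.toD _ E ⟶ DCoh.toD _ ((KFlatLib.pullCx V.ι).obj P) :=
      α ≫ DerivedCategory.Q.map ((KFlatLib.restrictCxIso V).app P).hom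
    obtain ⟨C, p, r, hT⟩ := distinguished_cocone_triangle β
    have hC : ∀ j, i - 1 ≤ j → IsZero (DCoh.HD C j) := by
      refine (KFlatLib.isoAboveEpiAt_iff _ hT (i - 1)).1 ⟨fun j hj => ?_, ?_⟩
      · haveI := hα₁ j hj
        dsimp [β]
        rw [Triangle.mk_mor₁, Functor.map_comp]
        infer_instance
      · haveI := hα₂
        dsimp [β]
        rw [Triangle.mk_mor₁, Functor.map_comp]
        infer_instance
    haveI : C.IsLE (i - 2) := (DerivedCategory.isLE_iff _ _).2 fun j hj => hC j (by omega)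
    haveI := isLE_lTensorMod GV C (i - 2)
    obtain ⟨T, hT', ⟨e₁⟩, ⟨e₂⟩, ⟨e₃⟩⟩ := KFlatLib.exists_triangle_lTensorMod GV _ hT
    haveI : IsIso ((DerivedCategory.homologyFunctor _ i).map T.mor₁) :=
      ((KFlatLib.isoAboveEpiAt_iff T hT' (i - 1)).2 fun j hj =>
        (DerivedCategory.isZero_of_isLE ((DCoh.LTensorMod GV).obj C) (i - 2) j (by omega)).of_iso
          ((DerivedCategory.homologyFunctor _ j).mapIso e₃)).1 i (by omega)
    haveI : PreservesFiniteLimits (Scheme.Modules.pullback V.ι) :=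
      preservesFiniteLimits_of_natIso (Scheme.Modules.restrictFunctorIsoPullback V.ι)
    haveI : (Scheme.Modules.pullback V.ι).PreservesHomology := inferInstance
    refine QCohLib.isCoh_of_iso (?_ : ((KFlatLib.tensorModCx GV).obj E).homology i ≅ _)
      (Groth.Agent.PerfLib.isCoh_homology _ (fun n => ?_) i)
    swap
    · have hn := Groth.Agent.PerfLib.isCoh_of_isFinLocFree (hE.2 n)
      haveI := hn.1
      haveI := hGV.1
      obtain ⟨h1, h2⟩ := Groth.Agent.S2297.result (E.X n) GV
      exact ⟨h1, h2 hn.2 hGV.2⟩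
    exact (KFlatLib.hdToD _ i).symm ≪≫
      ((DerivedCategory.homologyFunctor _ i).mapIso
        (KFlatLib.lTensorModObjIso GV E (KFlatLib.isKFlat_of_isStrictlyPerfect hE))).symm ≪≫
      ((DerivedCategory.homologyFunctor _ i).mapIso e₁).symm ≪≫
      asIso ((DerivedCategory.homologyFunctor _ i).map T.mor₁) ≪≫
      (DerivedCategory.homologyFunctor _ i).mapIso (e₂ ≪≫ KFlatLib.lTensorModObjIso GV _ hPV) ≪≫
      KFlatLib.hdToD _ i ≪≫
      (homologyFunctor _ _ i).mapIso ((DerBCLib.pullTensCxIso V.ι G).app P).symm ≪≫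
      (((KFlatLib.tensorModCx G).obj P).sc i).mapHomologyIso (Scheme.Modules.pullback V.ι) ≪≫
      ((Scheme.Modules.restrictFunctorIsoPullback V.ι).app _).symm
  choose V hxV hV using h
  exact Groth.Agent.PerfLib.isCoh_of_cover _ V
    (eq_top_iff.2 fun x _ => TopologicalSpace.Opens.mem_iSup.2 ⟨x, hxV x⟩) hV

/-- Direct images of objects with coherent cohomology along proper maps to Noetherian schemes. -/
theorem isCohD_rpush_proper [IsNoetherian S] (f : X ⟶ S) [IsProper f] [DCoh.HasRpush f]
    (Z : DCoh.D X) (hZ : DCoh.IsCohD Z) : DCoh.IsCohD ((DCoh.Rpush f).obj Z) := by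
  obtain ⟨_, _⟩ := QRlimLib.exists_isTriangulated_rpush f
  obtain ⟨N, hN⟩ := QRlimLib.exists_uniform_bound f
  intro i
  let c : ℤ := i - N - 1
  let A := (t.truncLE c).obj Z
  let B := (t.truncGT c).obj Z
  have hT := (DCoh.Rpush f).map_distinguished _ (t.triangleLEGT_distinguished c Z)
  have hA : DCoh.IsQCohD A := QRlimLib.isQCohD_truncLE (fun j => (hZ j).1) c
  haveI : A.IsLE c := inferInstance
  have hz : ∀ j, i ≤ j → IsZero (DCoh.HD ((DCoh.Rpush f).obj A) j) := fun j hj =>
    hN A hA c inferInstance j (by omega)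
  haveI := ((KFlatLib.isoAboveEpiAt_iff _ (rot_of_distTriang _ hT) (i - 1)).2 fun j hj =>
    PerfHomLib.isZero_HD_shift (hz (j + 1) (by omega))).1 i (by omega)
  refine QCohLib.isCoh_of_iso (asIso ((DerivedCategory.homologyFunctor S.Modules i).map
    ((DCoh.Rpush f).mapTriangle.obj ((t.triangleLEGT c).obj Z)).rotate.mor₁)).symm ?_
  haveI : B.IsGE (c + 1) := inferInstance
  refine PerfBaseLib.isCohD_rpush f B (c + 1) (fun j => ?_) i
  have hcoh : Coh.IsCoh (DCoh.HD B j) := by
    by_cases hj : c < j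
    · haveI := Groth.Agent.DerLib.Devissage.isIso_homology_truncGTπ Z c j hj
      exact QCohLib.isCoh_of_iso
        (asIso ((DerivedCategory.homologyFunctor X.Modules j).map ((t.truncGTπ c).app Z))) (hZ j)
    · exact DevissLib.isCoh_of_isZero (DerivedCategory.isZero_of_isGE B (c + 1) j (by omega))
  exact ⟨hcoh, ProperOverLib.of_map (𝟙 X) f _ (QCohLib.isClosed_support _ hcoh.2) fun x _ => ⟨x, rfl⟩⟩

end KiehlLib
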