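import Groth.Agent.KiehlLib.Base
import Groth.Agent.RelFlatLib.BaseChange
import Groth.Agent.RelFlatLib.Local
import Groth.Agent.DepthLib.Codepth

/-!
# Perfectness of twisted direct images
-/

set_option autoImplicit false
set_option backward.isDefEq.respectTransparency false
set_option backward.isDefEq.respectTransparency.types false
set_option maxHeartbeats 1000000
set_option synthInstance.maxHeartbeats 200000
set_option linter.style.haveILetI false

universe u

open CategoryTheory CategoryTheory.Limits AlgebraicGeometry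
open Groth.Agent

attribute [local instance] HasDerivedCategory.standard

namespace KiehlLib

variable {X S : Scheme.{u}}

/-- Pseudo-coherence and bounded tensor products give perfect direct images. -/
theorem isPerfect_rpush_of_tensorBounded (f : X ⟶ S) [QuasiCompact f] [QuasiSeparated f]
    [QuasiSeparatedSpace ↥S] [CompactSpace ↥S] [DCoh.HasRpush f] (T : CochainComplex X.Modules ℤ)
    (hT : DCoh.IsQCohD (DCoh.toD X T)) {a b : ℤ} (h : PerfBaseLib.TensorBounded f a b T)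
    (hpc : ∀ m : ℤ, DCoh.IsPseudoCoherentD m ((DCoh.Rpush f).obj (DCoh.toD X T))) :
    DCoh.IsPerfect ((DCoh.Rpush f).obj (DCoh.toD X T)) := by
  obtain ⟨c, hc⟩ := PerfBaseLib.exists_torAmplitude_rpush f T hT h
  have h' : DCoh.HasTorAmplitudeIn a (max a c) ((DCoh.Rpush f).obj (DCoh.toD X T)) :=
    fun F _ i hi => hc F i (hi.imp id fun h => lt_of_le_of_lt (le_max_right a c) h)
  exact KFlatLib.isPerfect_of_flatAmplitude_of_pcoh _ a (max a c)
    (KFlatLib.flatAmplitude_of_torAmplitude (le_max_left a c) h') (hpc _)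

/-- Perfectness of a twisted direct image is local on the base. -/
theorem isPerfect_rpush_local (f : X ⟶ S) [QuasiCompact f] [QuasiSeparated f] [DCoh.HasRpush f]
    (G : X.Modules) (hG : Coh.IsQCoh G) (hfl : FlatMod.IsFlatOver f G)
    {T : CochainComplex X.Modules ℤ} (hT : DCoh.IsKFlat T) (hTq : DCoh.IsQCohD (DCoh.toD X T))
    (h : ∀ (W : S.Opens) (hW : IsAffineOpen W) [DCoh.HasRpush (RpushLib.overW f hW)],
      DCoh.IsPerfect ((DCoh.Rpush (RpushLib.overW f hW)).obj (DCoh.toD _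
        ((KFlatLib.tensorModCx ((Scheme.Modules.pullback (f ⁻¹ᵁ W).ι).obj G)).obj
          ((KFlatLib.pullCx (f ⁻¹ᵁ W).ι).obj T))))) :
    DCoh.IsPerfect ((DCoh.Rpush f).obj (DCoh.toD X ((KFlatLib.tensorModCx G).obj T))) := by
  refine Groth.Agent.PerfDualLib.isPerfect_of_local fun s => ?_
  obtain ⟨W, hW, hs⟩ := QCohLib.exists_affine_nhd s
  refine ⟨W, hs, ?_⟩
  let fW := RpushLib.overW f hW
  haveI := Groth.Agent.DCohRestrLib.hasRpush fW
  haveI := KFlatLib.hasLpull hW.fromSpec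
  obtain ⟨c⟩ := PerfBaseLib.nonempty_baseChange_twist (CohBCLib.isPullback_overW f hW) hT hTq G hG hfl
  let K := (DCoh.Rpush f).obj (DCoh.toD X ((KFlatLib.tensorModCx G).obj T))
  haveI := KFlatLib.hasLpull hW.isoSpec.hom
  haveI := KFlatLib.hasLpull W.ι
  have hι : hW.isoSpec.hom ≫ hW.fromSpec = W.ι := hW.isoSpec_hom_fromSpec
  obtain ⟨r⟩ := PerfBaseLib.nonempty_lpull_restrictD (U := (W : Scheme.{u})) W K
  haveI := KFlatLib.hasLpull (hW.isoSpec.hom ≫ hW.fromSpec)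
  obtain ⟨cmp⟩ := KFlatLib.lpull_comp hW.isoSpec.hom hW.fromSpec
  have h1 : DCoh.IsPerfect ((DCoh.Lpull (hW.isoSpec.hom ≫ hW.fromSpec)).obj K) :=
    Groth.Agent.PerfLib.isPerfect_of_iso (cmp.app _)
      (Groth.Agent.S0921.result hW.isoSpec.hom _ (Groth.Agent.PerfLib.isPerfect_of_iso c.symm (h W hW)))
  have h2 : ∀ (g₁ g₂ : (W : Scheme.{u}) ⟶ S) (_ : g₁ = g₂) (_ : DCoh.HasLpull g₁) (_ : DCoh.HasLpull g₂),
      DCoh.IsPerfect ((DCoh.Lpull g₁).obj K) → DCoh.IsPerfect ((DCoh.Lpull g₂).obj K) := by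
    rintro g₁ g₂ rfl _ _ h
    exact h
  exact Groth.Agent.PerfLib.isPerfect_of_iso r (h2 _ _ hι inferInstance inferInstance h1)

/-- Twisted direct images of perfect objects along proper maps are perfect. -/
theorem isPerfect_rpush_lTensor (f : X ⟶ S) [IsProper f] [LocallyOfFinitePresentation f]
    [DCoh.HasRpush f] (G : X.Modules) [DCoh.HasLTensorMod G] [Coh.IsQCoh G] (hG : CohB1.IsFP G)
    (hfl : FlatMod.IsFlatOver f G) (E : DCoh.D X) (hE : DCoh.IsPerfect E) :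
    DCoh.IsPerfect ((DCoh.Rpush f).obj ((DCoh.LTensorMod G).obj E)) := by
  obtain ⟨T, hT, ⟨eT⟩⟩ := KFlatLib.exists_good_rep E
  have hTper : DCoh.IsPerfect (DCoh.toD X T) := Groth.Agent.PerfLib.isPerfect_of_iso eT.symm hE
  have hTq : DCoh.IsQCohD (DCoh.toD X T) := isQCohD_of_isPC ((Groth.Agent.S0914.result _).1 hTper).1
  refine Groth.Agent.PerfLib.isPerfect_of_iso ((DCoh.Rpush f).mapIso
    ((KFlatLib.lTensorModObjIso G T hT.1).symm ≪≫ (DCoh.LTensorMod G).mapIso eT))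
    (isPerfect_rpush_local f G ‹_› hfl hT.1 hTq fun W hW _ => ?_)
  let fW := RpushLib.overW f hW
  haveI : IsProper (f ∣_ W) := MorphismProperty.of_isPullback
    (isPullback_morphismRestrict f W).flip inferInstance
  haveI : IsProper fW := inferInstanceAs (IsProper ((f ∣_ W) ≫ hW.isoSpec.hom))
  haveI : LocallyOfFinitePresentation (f ∣_ W) := MorphismProperty.of_isPullback
    (isPullback_morphismRestrict f W).flip inferInstance
  haveI : LocallyOfFinitePresentation fW :=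
    inferInstanceAs (LocallyOfFinitePresentation ((f ∣_ W) ≫ hW.isoSpec.hom))
  haveI : CompactSpace ↥(f ⁻¹ᵁ W : Scheme.{u}) := QuasiCompact.compactSpace_of_compactSpace fW
  haveI := KFlatLib.hasLpull (f ⁻¹ᵁ W).ι
  let G' := (Scheme.Modules.pullback (f ⁻¹ᵁ W).ι).obj G
  let T' := (KFlatLib.pullCx (f ⁻¹ᵁ W).ι).obj T
  have hflW : FlatMod.IsFlatOver fW G' := fun x => (RichLib.ModFlat.isFlatOverAt_congr (f := f)
    (f ⁻¹ᵁ W).ι hW.fromSpec (CohBCLib.isPullback_overW f hW).w.symm (Iso.refl _) x).2 (hfl _)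
  have hT' : DCoh.IsKFlat T' := KFlatLib.isKFlat_pull _ hT.1
  have hper' : DCoh.IsPerfect (DCoh.toD _ T') := Groth.Agent.PerfLib.isPerfect_of_iso
    (KFlatLib.lpullObjIso _ T hT.1) (Groth.Agent.S0921.result _ _ hTper)
  have hpc' := ((Groth.Agent.S0914.result _).1 hper').1
  obtain ⟨a, b, -, hab⟩ := PerfBaseLib.exists_amp_of_isCompact hT' hper' isCompact_univ
  haveI := KFlatLib.hasLTensorMod G'
  haveI : Coh.IsQCoh G' := KFlatLib.isQCoh_pullback (f ⁻¹ᵁ W).ι G
  refine isPerfect_rpush_of_tensorBounded fW _ (DerBCLib.isQCohD_tensorMod hT' (isQCohD_of_isPC hpc') G')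
    (PerfBaseLib.tensorBounded_of_tor fW _
      (PerfBaseLib.hasTorAmplitude_tensorMod fW G' T' hT' hflW fun x _ => hab x (Set.mem_univ x)))
    fun m => ?_
  exact Groth.Agent.PerfLib.isPC_of_iso ((DCoh.Rpush fW).mapIso (KFlatLib.lTensorModObjIso G' T' hT'))
    (isPC_rpush_lTensor fW G' (RichLib.ModFlat.isFP_pullback (f ⁻¹ᵁ W).ι hG) hflW _ hpc' m)

theorem hasTorAmplitudeIn_mono {R : Type u} [CommRing R] {a b a' b' : ℤ} {K : Dual.D R}
    (ha : a' ≤ a) (hb : b ≤ b') (h : DRing.HasTorAmplitudeIn R a b K) :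
    DRing.HasTorAmplitudeIn R a' b' K := by
  obtain ⟨E, h1, h2, h3⟩ := h
  exact ⟨E, fun i hi => h1 i (hi.imp (fun h => by omega) (fun h => by omega)), h2, h3⟩

/-- Local finite tor amplitude on a quasi-compact space is uniform. -/
theorem exists_hasTorAmplitude [CompactSpace ↥X] (f : X ⟶ S) {F : CochainComplex X.Modules ℤ}
    (h : DerSch.LocFiniteTorAmplitude f F) : ∃ a b : ℤ, DerSch.HasTorAmplitude f a b F := by
  choose V a b hxV hV using h
  obtain ⟨s, hs⟩ := isCompact_univ.elim_finite_subcover (fun p : X => (V p : Set X))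
    (fun p => (V p).isOpen) fun p _ => Set.mem_iUnion.2 ⟨p, hxV p⟩
  obtain ⟨a₀, ha₀⟩ : ∃ a₀, ∀ p ∈ s, a₀ ≤ a p := (s.finite_toSet.image a).bddBelow.imp
    fun a₀ h p hp => h ⟨p, hp, rfl⟩
  obtain ⟨b₀, hb₀⟩ : ∃ b₀, ∀ p ∈ s, b p ≤ b₀ := (s.finite_toSet.image b).bddAbove.imp
    fun b₀ h p hp => h ⟨p, hp, rfl⟩
  refine ⟨a₀, b₀, fun x => ?_⟩
  obtain ⟨p, hps, hp⟩ := Set.mem_iUnion₂.1 (hs (Set.mem_univ x))
  exact hasTorAmplitudeIn_mono (ha₀ p hps) (hb₀ p hps) (hV p x hp)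

/-- Relative finite tor dimension is stable under base change. -/
theorem loc_baseChange {X' S' : Scheme.{u}} (f : X ⟶ S) [Flat f] [LocallyOfFinitePresentation f]
    (f' : X' ⟶ S') [Flat f'] [LocallyOfFinitePresentation f'] (g : S' ⟶ S) (g' : X' ⟶ X)
    (hc : IsPullback g' f' f g) [DCoh.HasLpull g'] (K : DCoh.D X)
    (hpc : ∀ m : ℤ, DCoh.IsPseudoCoherentD m K) (hloc : DCoh.LocHasFiniteRelTorDim f K) :
    DCoh.LocHasFiniteRelTorDim f' ((DCoh.Lpull g').obj K) := by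
  refine RelFlatLib.loc_of_charts _ fun x => ?_
  obtain ⟨T, hT, hxT, -⟩ := exists_isAffineOpen_mem_and_subset (x := f (g' x)) (U := ⊤) trivial
  obtain ⟨T', hT', hxT', eT⟩ := exists_isAffineOpen_mem_and_subset (x := f' x)
    (U := g ⁻¹ᵁ T) (by
      change g (f' x) ∈ T
      rw [← Scheme.Hom.comp_apply, ← hc.w]
      exact hxT)
  obtain ⟨U, hU, hxU, e⟩ := exists_isAffineOpen_mem_and_subset (x := g' x) (U := f ⁻¹ᵁ T) hxT
  obtain ⟨hU', h⟩ := RelFlatLib.loc_chart_baseChange f f' g g' hc hT hT' eT hU e K (isQCohD_of_isPC hpc)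
    hpc hloc
  exact ⟨_, hU', T', hT', inf_le_right, ⟨hxU, hxT'⟩, h⟩

/-- Direct images of relatively perfect objects are perfect. -/
theorem isPerfect_rpush_rel (f : X ⟶ S) [Flat f] [IsProper f] [LocallyOfFinitePresentation f]
    [DCoh.HasRpush f] (E : DCoh.D X) (hpc : ∀ m : ℤ, DCoh.IsPseudoCoherentD m E)
    (htor : DCoh.LocHasFiniteRelTorDim f E) : DCoh.IsPerfect ((DCoh.Rpush f).obj E) := by
  obtain ⟨T, hT, ⟨eT⟩⟩ := KFlatLib.exists_good_rep E
  have hTpc := fun m => Groth.Agent.PerfLib.isPC_of_iso eT.symm (hpc m)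
  haveI : Coh.IsQCoh (Coh.structureModule X) := QCohLib.isQCoh_unit
  refine Groth.Agent.PerfLib.isPerfect_of_iso
    ((DCoh.Rpush f).mapIso (DerivedCategory.Q.mapIso ((tensorModUnitIso X).app T) ≪≫ eT))
    (isPerfect_rpush_local f _ ‹_› (PerfBaseLib.isFlatOver_unit f) hT.1 (isQCohD_of_isPC hTpc)
      fun W hW _ => ?_)
  let fW := RpushLib.overW f hW
  haveI : IsProper (f ∣_ W) := MorphismProperty.of_isPullback
    (isPullback_morphismRestrict f W).flip inferInstance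
  haveI : IsProper fW := inferInstanceAs (IsProper ((f ∣_ W) ≫ hW.isoSpec.hom))
  haveI : LocallyOfFinitePresentation (f ∣_ W) := MorphismProperty.of_isPullback
    (isPullback_morphismRestrict f W).flip inferInstance
  haveI : LocallyOfFinitePresentation fW :=
    inferInstanceAs (LocallyOfFinitePresentation ((f ∣_ W) ≫ hW.isoSpec.hom))
  haveI : Flat fW := MorphismProperty.of_isPullback (CohBCLib.isPullback_overW f hW) ‹Flat f›
  haveI : CompactSpace ↥(f ⁻¹ᵁ W : Scheme.{u}) := QuasiCompact.compactSpace_of_compactSpace fW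
  haveI := KFlatLib.hasLpull (f ⁻¹ᵁ W).ι
  let T' := (KFlatLib.pullCx (f ⁻¹ᵁ W).ι).obj T
  have hT' : DCoh.IsKFlat T' := KFlatLib.isKFlat_pull _ hT.1
  let e' : DCoh.toD _ T' ≅ (DCoh.Lpull (f ⁻¹ᵁ W).ι).obj E :=
    (KFlatLib.lpullObjIso _ T hT.1).symm ≪≫ (DCoh.Lpull (f ⁻¹ᵁ W).ι).mapIso eT
  have hpc' : ∀ m : ℤ, DCoh.IsPseudoCoherentD m (DCoh.toD _ T') := fun m =>
    Groth.Agent.PerfLib.isPC_of_iso e'.symm (Groth.Agent.S0910.result _ m E (hpc m))
  obtain ⟨a, b, hab⟩ := exists_hasTorAmplitude fW ((RelFlatLib.loc_iff fW e').1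
    (loc_baseChange f fW hW.fromSpec (f ⁻¹ᵁ W).ι (CohBCLib.isPullback_overW f hW) E hpc htor))
  let W' : Scheme.{u} := (f ⁻¹ᵁ W : Scheme.{u})
  haveI : Coh.IsQCoh (Coh.structureModule W') := QCohLib.isQCoh_unit
  haveI := KFlatLib.hasLTensorMod (Coh.structureModule W')
  refine Groth.Agent.PerfLib.isPerfect_of_iso ((DCoh.Rpush fW).mapIso (DerivedCategory.Q.mapIso
    ((tensorModUnitIso W').app T').symm ≪≫ DerivedCategory.Q.mapIso
      ((NatIso.mapHomologicalComplex (tensRightNatIso (KFlatLib.pullUnitIso (f := (f ⁻¹ᵁ W).ι)).symm)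
        (ComplexShape.up ℤ)).app T')))
    (isPerfect_rpush_of_tensorBounded fW T' (isQCohD_of_isPC hpc')
      (PerfBaseLib.tensorBounded_of_tor fW _ hab) fun m => ?_)
  obtain ⟨e⟩ := nonempty_lTensorMod_unit (X := W') (DCoh.toD _ T')
  exact Groth.Agent.PerfLib.isPC_of_iso ((DCoh.Rpush fW).mapIso e)
    (isPC_rpush_lTensor fW _ DepthLib.isFP_structureModule (PerfBaseLib.isFlatOver_unit fW) _ hpc' m)

end KiehlLib
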