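import Groth.Agent.KiehlLib.Lift
import Groth.Agent.KiehlLib.Tensor
import Groth.Agent.S0910
import Groth.Agent.PerfLib.FiniteType

/-!
# Pseudo-coherence of twisted direct images over an affine base
-/

set_option autoImplicit false
set_option backward.isDefEq.respectTransparency false
set_option backward.isDefEq.respectTransparency.types false
set_option maxHeartbeats 1000000
set_option synthInstance.maxHeartbeats 200000
set_option linter.style.haveILetI false

universe u

open CategoryTheory CategoryTheory.Limits CategoryTheory.Pretriangulated AlgebraicGeometry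
open Groth.Agent
open DerivedCategory.TStructure (t)

attribute [local instance] HasDerivedCategory.standard

namespace KiehlLib

variable {X X₀ S S₀ : Scheme.{u}}

/-- Pseudo-coherent objects on a quasi-compact scheme are bounded above. -/
theorem exists_isLE_of_isPC [CompactSpace ↥X] {m : ℤ} {K : DCoh.D X}
    (h : DCoh.IsPseudoCoherentD m K) : ∃ b : ℤ, K.IsLE b := by
  have hloc : ∀ x : X, ∃ (U : X.Opens) (b : ℤ), x ∈ U ∧
      ∀ i, b < i → IsZero ((DCoh.HD K i).restrict U.ι) := fun x => by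
    obtain ⟨U, hx, hU⟩ := h x
    obtain ⟨E, α, ⟨⟨a, b, hv⟩, -⟩, hα₁, -⟩ := hU _ ⟨DerivedCategory.Q.objObjPreimageIso K⟩
    refine ⟨U, max b m, hx, fun i hi => ?_⟩
    haveI := hα₁ i (by omega)
    have hz : IsZero ((DerivedCategory.homologyFunctor (U : Scheme.{u}).Modules i).obj
        (DerivedCategory.Q.obj E)) :=
      ((HomologicalComplex.exactAt_iff_isZero_homology E i).1
        (HomologicalComplex.ExactAt.of_isZero (hv i (Or.inr (by omega))))).of_iso
        ((DerivedCategory.homologyFunctorFactors _ i).app E)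
    exact hz.of_iso ((PerfLib.resHDIso U.ι K i).symm ≪≫
      (DerivedCategory.homologyFunctor (U : Scheme.{u}).Modules i).mapIso
        ((PerfLib.resD U.ι).mapIso (DerivedCategory.Q.objObjPreimageIso K).symm ≪≫
          PerfLib.resDQIso U.ι _) ≪≫
      (asIso ((DerivedCategory.homologyFunctor (U : Scheme.{u}).Modules i).map α)).symm)
  choose U b hxU hz using hloc
  obtain ⟨s, hs⟩ := isCompact_univ.elim_finite_subcover (fun p : X => (U p : Set X))
    (fun p => (U p).isOpen) fun p _ => Set.mem_iUnion.2 ⟨p, hxU p⟩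
  obtain ⟨b₀, hb₀⟩ : ∃ b₀, ∀ p ∈ s, b p ≤ b₀ := (s.finite_toSet.image b).bddAbove.imp
    fun b₀ h p hp => h ⟨p, hp, rfl⟩
  refine ⟨b₀, (DerivedCategory.isLE_iff K b₀).2 fun i hi => PerfLib.isZero_of_cover fun x => ?_⟩
  obtain ⟨p, hps, hp⟩ := Set.mem_iUnion₂.1 (hs (Set.mem_univ x))
  exact ⟨U p, hp, hz p i (by have := hb₀ p hps; omega)⟩

/-- Two out of three for twisted direct images. -/
theorem isPC_rpush_lTensor₂ (f : X ⟶ S) [DCoh.HasRpush f] (G : X.Modules) [DCoh.HasLTensorMod G]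
    (T : Triangle (DCoh.D X)) (hT : T ∈ distinguishedTriangles) (m : ℤ)
    (h₁ : DCoh.IsPseudoCoherentD m ((DCoh.Rpush f).obj ((DCoh.LTensorMod G).obj T.obj₁)))
    (h₃ : DCoh.IsPseudoCoherentD m ((DCoh.Rpush f).obj ((DCoh.LTensorMod G).obj T.obj₃))) :
    DCoh.IsPseudoCoherentD m ((DCoh.Rpush f).obj ((DCoh.LTensorMod G).obj T.obj₂)) := by
  obtain ⟨_, _⟩ := QRlimLib.exists_isTriangulated_rpush f
  obtain ⟨T', hT', ⟨e₁⟩, ⟨e₂⟩, ⟨e₃⟩⟩ := KFlatLib.exists_triangle_lTensorMod G T hT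
  exact PerfLib.isPC_of_iso ((DCoh.Rpush f).mapIso e₂)
    ((Groth.Agent.S0889.result m _ ((DCoh.Rpush f).map_distinguished _ hT')).2.1
      (PerfLib.isPC_of_iso ((DCoh.Rpush f).mapIso e₁).symm h₁)
      (PerfLib.isPC_of_iso ((DCoh.Rpush f).mapIso e₃).symm h₃))

/-- Objects in low degrees have trivially pseudo-coherent twisted direct images. -/
theorem isPC_rpush_of_isLE (f : X ⟶ S) [DCoh.HasRpush f] {N : ℤ}
    (hN : ∀ (E : DCoh.D X), DCoh.IsQCohD E → ∀ b : ℤ, E.IsLE b → ∀ m : ℤ, b + N ≤ m →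
      IsZero (DCoh.HD ((DCoh.Rpush f).obj E) m))
    (G : X.Modules) [DCoh.HasLTensorMod G] (hG : Coh.IsQCoh G) (E : DCoh.D X) (hE : DCoh.IsQCohD E)
    (m : ℤ) [E.IsLE (m - 1)] :
    DCoh.IsPseudoCoherentD (m + N) ((DCoh.Rpush f).obj ((DCoh.LTensorMod G).obj E)) :=
  PerfLib.isPC_of_isZero_above fun i hi => hN _ (isQCohD_lTensorMod G hG E (m - 1) hE) (m - 1)
    (isLE_lTensorMod G E (m - 1)) i (by omega)

/-- Twisted direct images of pullbacks of coherent modules from a Noetherian model. -/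
theorem isPC_rpush_image [IsNoetherian S₀] [IsLocallyNoetherian X₀] {f : X ⟶ S} {f₀ : X₀ ⟶ S₀}
    [IsProper f₀] {g : S ⟶ S₀} {q : X ⟶ X₀} (H : IsPullback q f f₀ g)
    [DCoh.HasRpush f₀] [DCoh.HasRpush f] [DCoh.HasLpull g] [DCoh.HasLpull q]
    (G₀ : X₀.Modules) (hG₀ : Coh.IsCoh G₀) (hflat : FlatMod.IsFlatOver f₀ G₀)
    {G : X.Modules} [DCoh.HasLTensorMod G] (e : (Scheme.Modules.pullback q).obj G₀ ≅ G)
    (M : X₀.Modules) (hM : Coh.IsCoh M) (b m : ℤ) :
    DCoh.IsPseudoCoherentD m ((DCoh.Rpush f).obj ((DCoh.LTensorMod G).obj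
      ((DCoh.Lpull q).obj ((DerivedCategory.singleFunctor X₀.Modules b).obj M)))) := by
  let K := (DerivedCategory.singleFunctor X₀.Modules b).obj M
  obtain ⟨L, -, hL, ⟨eL⟩⟩ := exists_flat_rep K b
  have hLq : DCoh.IsQCohD (DCoh.toD X₀ L) := KFlatLib.isQCohD_iso eL.symm (isQCohD_single M hM.1 b)
  let Z := DCoh.toD X₀ ((KFlatLib.tensorModCx G₀).obj L)
  have hZ : DCoh.IsCohD Z := isCohD_tensorMod_pc hL
    (fun k => PerfLib.isPC_of_iso eL.symm (isPC_single M hM b k)) hG₀
  haveI := KFlatLib.hasLTensorMod G₀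
  haveI : Z.IsLE b := by
    haveI : ((DCoh.LTensorMod G₀).obj K).IsLE b := isLE_lTensorMod G₀ K b
    exact t.isLE_of_iso ((DCoh.LTensorMod G₀).mapIso eL.symm ≪≫ KFlatLib.lTensorModObjIso G₀ L hL) b
  have hc : DCoh.IsCohD ((DCoh.Rpush f₀).obj Z) := isCohD_rpush_proper f₀ Z hZ
  obtain ⟨N, hN⟩ := QRlimLib.exists_uniform_bound f₀
  haveI : ((DCoh.Rpush f₀).obj Z).IsLE (b + N - 1) := (DerivedCategory.isLE_iff _ _).2 fun i hi =>
    hN Z (fun j => (hZ j).1) b inferInstance i (by omega)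
  have h₀ : DCoh.IsPseudoCoherentD m ((DCoh.Rpush f₀).obj Z) :=
    PerfNoethLib.isPC_of_coherent (b := b + N - 1) fun i _ => hc i
  obtain ⟨ebc⟩ := PerfBaseLib.nonempty_baseChange_twist H hL hLq G₀ hG₀.1 hflat
  refine PerfLib.isPC_of_iso (ebc ≪≫ (DCoh.Rpush f).mapIso ?_) (Groth.Agent.S0910.result g m _ h₀)
  exact DerivedCategory.Q.mapIso
      ((NatIso.mapHomologicalComplex (tensRightNatIso e) (ComplexShape.up ℤ)).app
        ((KFlatLib.pullCx q).obj L)) ≪≫
    (KFlatLib.lTensorModObjIso G _ (KFlatLib.isKFlat_pull q hL)).symm ≪≫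
    (DCoh.LTensorMod G).mapIso ((KFlatLib.lpullObjIso q L hL).symm ≪≫ (DCoh.Lpull q).mapIso eL)

/-- **Pseudo-coherence of twisted direct images** along proper maps over an affine base. -/
theorem exists_shift_isPC {A : Type u} [CommRing A] (f : X ⟶ Spec (CommRingCat.of A)) [IsProper f]
    [LocallyOfFinitePresentation f] [DCoh.HasRpush f] (G : X.Modules) [DCoh.HasLTensorMod G]
    [Coh.IsQCoh G] (hG : CohB1.IsFP G) (hfl : FlatMod.IsFlatOver f G) :
    ∃ d : ℤ, ∀ (E : DCoh.D X), DCoh.IsQCohD E → ∀ m : ℤ, DCoh.IsPseudoCoherentD m E →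
      DCoh.IsPseudoCoherentD (m + d) ((DCoh.Rpush f).obj ((DCoh.LTensorMod G).obj E)) := by
  obtain ⟨N, hN⟩ := QRlimLib.exists_uniform_bound f
  obtain ⟨A₀, hA₀, X₀, f₀, hf₀, G₀, hG₀, q, H, e, hfl₀⟩ := CohCmpLib.exists_proper_descent f G hG hfl
  haveI := hf₀
  haveI : IsNoetherianRing ↥A₀ := by
    haveI : Algebra.FiniteType ℤ ↥A₀ := (Subalgebra.fg_iff_finiteType A₀).mp hA₀
    exact Algebra.FiniteType.isNoetherianRing ℤ ↥A₀
  haveI : IsNoetherian (Spec (CommRingCat.of ↥A₀)) := inferInstance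
  haveI : IsLocallyNoetherian X₀ := LocallyOfFiniteType.isLocallyNoetherian f₀
  haveI : CompactSpace ↥X₀ := QuasiCompact.compactSpace_of_compactSpace f₀
  haveI : IsNoetherian X₀ := ⟨⟩
  haveI : CompactSpace ↥X := QuasiCompact.compactSpace_of_compactSpace f
  haveI := Groth.Agent.DCohRestrLib.hasRpush f₀
  haveI := KFlatLib.hasLpull (Spec.map (CommRingCat.ofHom A₀.val.toRingHom))
  haveI := KFlatLib.hasLpull q
  haveI := Groth.Agent.DCohRestrLib.hasRpush q
  haveI : IsAffineHom q := MorphismProperty.of_isPullback H.flip inferInstance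
  haveI : X₀.IsSeparated := ⟨by
    rw [show terminal.from X₀ = f₀ ≫ terminal.from _ from terminal.hom_ext _ _]; infer_instance⟩
  have hd : AffineInter X₀ := fun V W hV hW => hV.inf hW
  refine ⟨N, fun E hE m hpc => ?_⟩
  suffices key : ∀ k : ℕ, ∀ E : DCoh.D X, DCoh.IsQCohD E → DCoh.IsPseudoCoherentD m E →
      E.IsLE (m - 1 + k) →
      DCoh.IsPseudoCoherentD (m + N) ((DCoh.Rpush f).obj ((DCoh.LTensorMod G).obj E)) by
    obtain ⟨b, hb⟩ := exists_isLE_of_isPC hpc
    exact key (b - m + 1).toNat E hE hpc (t.isLE_of_le E b _ (by omega))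
  intro k
  induction k with
  | zero =>
    intro E hE _ hle
    haveI : E.IsLE (m - 1) := by simpa using hle
    exact isPC_rpush_of_isLE f hN G inferInstance E hE m
  | succ k ih =>
    intro E hE hpc hle
    let b : ℤ := m + k
    haveI : E.IsLE b := by
      rw [show b = m - 1 + ((k + 1 : ℕ) : ℤ) by omega]
      exact hle
    -- split off the part below `m`
    have hT := t.triangleLEGT_distinguished (m - 1) E
    let E₁ := (t.truncLE (m - 1)).obj E
    let E' := (t.truncGT (m - 1)).obj E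
    have hE₁ : DCoh.IsQCohD E₁ := QRlimLib.isQCohD_truncLE hE (m - 1)
    have hE' : DCoh.IsQCohD E' := KFlatLib.isQCohD₂
      (rot_of_distTriang _ hT) hE (KFlatLib.isQCohD_shift hE₁ 1)
    haveI : E₁.IsLE (m - 1) := inferInstance
    refine isPC_rpush_lTensor₂ f G _ hT (m + N) (isPC_rpush_of_isLE f hN G inferInstance E₁ hE₁ m) ?_
    change DCoh.IsPseudoCoherentD (m + N) ((DCoh.Rpush f).obj ((DCoh.LTensorMod G).obj E'))
    haveI : E'.IsGE m := by
      have : E'.IsGE (m - 1 + 1) := inferInstance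
      simpa using this
    haveI : E'.IsLE b := (DerivedCategory.isLE_iff _ _).2 fun i hi => by
      haveI := Groth.Agent.DerLib.Devissage.isIso_homology_truncGTπ E (m - 1) i (by omega)
      exact (DerivedCategory.isZero_of_isLE E b i hi).of_iso
        (asIso ((DerivedCategory.homologyFunctor X.Modules i).map ((t.truncGTπ (m - 1)).app E))).symm
    have hpc' : DCoh.IsPseudoCoherentD m E' := by
      have h₁ : DCoh.IsPseudoCoherentD (m + 1) E₁ := PerfLib.isPC_of_isZero_above fun i hi =>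
        DerivedCategory.isZero_of_isLE E₁ (m - 1) i (by omega)
      exact (Groth.Agent.S0889.result m _ hT).1 h₁ hpc
    -- the generator in degree `b`
    have hft : CohB1.IsFT (DCoh.HD E' b) :=
      PerfLib.isFT_HD_top (PerfLib.isPC_mono (by omega) hpc') fun i hi =>
        DerivedCategory.isZero_of_isLE E' b i hi
    obtain ⟨M, ψ, hM, hψ⟩ := exists_top_generator hd q E' hE' m b hft
    obtain ⟨C, p, r, hC⟩ := distinguished_cocone_triangle ψ
    let K := (DerivedCategory.singleFunctor X₀.Modules b).obj M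
    have hLq : DCoh.IsQCohD ((DCoh.Lpull q).obj K) :=
      KFlatLib.isQCohD_lpull q _ (isQCohD_single M hM.1 b)
    have hLpc : DCoh.IsPseudoCoherentD (m + 1) ((DCoh.Lpull q).obj K) :=
      Groth.Agent.S0910.result q (m + 1) K (isPC_single M hM b _)
    haveI : ((DCoh.Lpull q).obj K).IsLE b := isLE_lpull q K b
    haveI : C.IsLE (b - 1) := (DerivedCategory.isLE_iff _ _).2 fun i hi =>
      (KFlatLib.isoAboveEpiAt_iff _ hC b).1 ⟨fun j hj =>
        ⟨⟨0, (DerivedCategory.isZero_of_isLE ((DCoh.Lpull q).obj K) b j hj).eq_of_src _ _,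
          (DerivedCategory.isZero_of_isLE E' b j hj).eq_of_src _ _⟩⟩, hψ⟩ i (by omega)
    refine isPC_rpush_lTensor₂ f G _ hC (m + N)
      (isPC_rpush_image H G₀ hG₀ hfl₀ e M hM b _) (ih C ?_ ?_ ?_)
    · exact KFlatLib.isQCohD₂ (rot_of_distTriang _ hC) hE' (KFlatLib.isQCohD_shift hLq 1)
    · exact (Groth.Agent.S0889.result m _ hC).1 hLpc hpc'
    · rw [show m - 1 + (k : ℤ) = b - 1 by omega]
      infer_instance

end KiehlLib
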