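import Groth.Agent.KiehlLib.PC
import Groth.Agent.RelPCSchLib.Main
import Groth.Agent.PerfBaseLib.SplitSheaf
import Groth.Agent.PerfDualLib.Unit

/-!
# Pseudo-coherence of twisted direct images over any base
-/

set_option autoImplicit false
set_option backward.isDefEq.respectTransparency false
set_option backward.isDefEq.respectTransparency.types false
set_option maxHeartbeats 1000000
set_option synthInstance.maxHeartbeats 200000
set_option linter.style.haveILetI false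

universe u

open CategoryTheory CategoryTheory.Limits AlgebraicGeometry
open Groth.Agent

attribute [local instance] HasDerivedCategory.standard

namespace KiehlLib

variable {X S : Scheme.{u}}

/-- Pseudo-coherent objects have quasi-coherent cohomology. -/
theorem isQCohD_of_isPC {E : DCoh.D X} (hE : ∀ m : ℤ, DCoh.IsPseudoCoherentD m E) : DCoh.IsQCohD E :=
  fun i => (RelPCSchLib.isQCoh_HD_of_isPC (hE (i - 1))).1 i (by omega)

/-- `- ⊗ O` is the identity on complexes. -/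
noncomputable def tensorModUnitIso (X : Scheme.{u}) :
    KFlatLib.tensorModCx (Coh.structureModule X) ≅ 𝟭 (CochainComplex X.Modules ℤ) :=
  NatIso.mapHomologicalComplex
      (NatIso.ofComponents (fun N => Groth.Agent.PerfDualLib.modUnitNat.app N)
        (fun g => Groth.Agent.PerfDualLib.modUnitNat.hom.naturality g)) (ComplexShape.up ℤ) ≪≫
    Functor.mapHomologicalComplexIdIso _ _

/-- The derived twist by the structure module is the identity. -/
theorem nonempty_lTensorMod_unit [DCoh.HasLTensorMod (Coh.structureModule X)] (E : DCoh.D X) :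
    Nonempty ((DCoh.LTensorMod (Coh.structureModule X)).obj E ≅ E) := by
  obtain ⟨T, hT, ⟨eT⟩⟩ := KFlatLib.exists_good_rep E
  exact ⟨(DCoh.LTensorMod _).mapIso eT.symm ≪≫ KFlatLib.lTensorModObjIso _ T hT.1 ≪≫
    DerivedCategory.Q.mapIso ((tensorModUnitIso X).app T) ≪≫ eT⟩

/-- Pseudo-coherence can be checked on an open cover. -/
theorem isPC_of_local {K : DCoh.D X} {m : ℤ}
    (h : ∀ x : X, ∃ W : X.Opens, x ∈ W ∧
      DCoh.IsPseudoCoherentD m ((DCoh.restrictD W.ι).obj K)) : DCoh.IsPseudoCoherentD m K := by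
  rw [PerfLib.isPC_iff]
  intro x
  obtain ⟨W, hx, hW⟩ := h x
  obtain ⟨V, j, hj, v, hv, hm⟩ := (PerfLib.isPC_iff m _).1 hW ⟨x, hx⟩
  refine ⟨V, j ≫ W.ι, inferInstance, v, ?_, PerfLib.hasPC_of_res j W.ι hm⟩
  change W.ι (j v) = x
  rw [hv]
  rfl

/-- **Kiehl's finiteness theorem**: twisted direct images of pseudo-coherent objects. -/
theorem isPC_rpush_lTensor (f : X ⟶ S) [IsProper f] [LocallyOfFinitePresentation f]
    [DCoh.HasRpush f] (G : X.Modules) [DCoh.HasLTensorMod G] [Coh.IsQCoh G] (hG : CohB1.IsFP G)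
    (hfl : FlatMod.IsFlatOver f G) (E : DCoh.D X) (hE : ∀ m : ℤ, DCoh.IsPseudoCoherentD m E) (m : ℤ) :
    DCoh.IsPseudoCoherentD m ((DCoh.Rpush f).obj ((DCoh.LTensorMod G).obj E)) := by
  obtain ⟨T, hT, ⟨eT⟩⟩ := KFlatLib.exists_good_rep E
  have hEq := isQCohD_of_isPC hE
  have hTq : DCoh.IsQCohD (DCoh.toD X T) := KFlatLib.isQCohD_iso eT.symm hEq
  refine isPC_of_local fun s => ?_
  obtain ⟨W, hW, hs⟩ := QCohLib.exists_affine_nhd s
  refine ⟨W, hs, ?_⟩
  let fW := RpushLib.overW f hW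
  haveI : IsProper (f ∣_ W) := MorphismProperty.of_isPullback
    (isPullback_morphismRestrict f W).flip inferInstance
  haveI : IsProper fW := inferInstanceAs (IsProper ((f ∣_ W) ≫ hW.isoSpec.hom))
  haveI : LocallyOfFinitePresentation (f ∣_ W) := MorphismProperty.of_isPullback
    (isPullback_morphismRestrict f W).flip inferInstance
  haveI : LocallyOfFinitePresentation fW :=
    inferInstanceAs (LocallyOfFinitePresentation ((f ∣_ W) ≫ hW.isoSpec.hom))
  haveI := Groth.Agent.DCohRestrLib.hasRpush fW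
  haveI := KFlatLib.hasLpull hW.fromSpec
  haveI := KFlatLib.hasLpull (f ⁻¹ᵁ W).ι
  let G' := (Scheme.Modules.pullback (f ⁻¹ᵁ W).ι).obj G
  haveI := KFlatLib.hasLTensorMod G'
  let T' := (KFlatLib.pullCx (f ⁻¹ᵁ W).ι).obj T
  have hflW : FlatMod.IsFlatOver fW G' := fun x => (RichLib.ModFlat.isFlatOverAt_congr (f := f)
    (f ⁻¹ᵁ W).ι hW.fromSpec (CohBCLib.isPullback_overW f hW).w.symm (Iso.refl _) x).2 (hfl _)
  have hGW : CohB1.IsFP G' := RichLib.ModFlat.isFP_pullback (f ⁻¹ᵁ W).ι hG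
  have hT' : ∀ k : ℤ, DCoh.IsPseudoCoherentD k (DCoh.toD _ T') := fun k =>
    PerfLib.isPC_of_iso (KFlatLib.lpullObjIso _ T hT.1)
      (Groth.Agent.S0910.result _ k _ (PerfLib.isPC_of_iso eT.symm (hE k)))
  obtain ⟨d, hd⟩ := exists_shift_isPC fW G' hGW hflW
  have hp : DCoh.IsPseudoCoherentD m ((DCoh.Rpush fW).obj ((DCoh.LTensorMod G').obj (DCoh.toD _ T'))) := by
    have := hd _ (isQCohD_of_isPC hT') (m - d) (hT' _)
    simpa using this
  obtain ⟨c⟩ := PerfBaseLib.nonempty_baseChange_twist (CohBCLib.isPullback_overW f hW) hT.1 hTq G ‹_› hfl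
  have hc : DCoh.IsPseudoCoherentD m ((DCoh.Lpull hW.fromSpec).obj
      ((DCoh.Rpush f).obj ((DCoh.LTensorMod G).obj E))) :=
    PerfLib.isPC_of_iso ((DCoh.Rpush fW).mapIso
        (KFlatLib.lTensorModObjIso G' T' (KFlatLib.isKFlat_pull _ hT.1)) ≪≫ c.symm ≪≫
      (DCoh.Lpull hW.fromSpec).mapIso ((DCoh.Rpush f).mapIso
        ((KFlatLib.lTensorModObjIso G T hT.1).symm ≪≫ (DCoh.LTensorMod G).mapIso eT))) hp
  haveI := KFlatLib.hasLpull hW.isoSpec.hom
  haveI := KFlatLib.hasLpull W.ι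
  have hι : hW.isoSpec.hom ≫ hW.fromSpec = W.ι := hW.isoSpec_hom_fromSpec
  obtain ⟨r⟩ := PerfBaseLib.nonempty_lpull_restrictD (U := (W : Scheme.{u})) W
    ((DCoh.Rpush f).obj ((DCoh.LTensorMod G).obj E))
  haveI := KFlatLib.hasLpull (hW.isoSpec.hom ≫ hW.fromSpec)
  obtain ⟨cmp⟩ := KFlatLib.lpull_comp hW.isoSpec.hom hW.fromSpec
  have h1 : DCoh.IsPseudoCoherentD m ((DCoh.Lpull (hW.isoSpec.hom ≫ hW.fromSpec)).obj
      ((DCoh.Rpush f).obj ((DCoh.LTensorMod G).obj E))) :=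
    PerfLib.isPC_of_iso (cmp.app _) (Groth.Agent.S0910.result hW.isoSpec.hom m _ hc)
  have h2 : ∀ (g₁ g₂ : (W : Scheme.{u}) ⟶ S) (_ : g₁ = g₂) (_ : DCoh.HasLpull g₁) (_ : DCoh.HasLpull g₂),
      DCoh.IsPseudoCoherentD m ((DCoh.Lpull g₁).obj ((DCoh.Rpush f).obj ((DCoh.LTensorMod G).obj E))) →
      DCoh.IsPseudoCoherentD m ((DCoh.Lpull g₂).obj ((DCoh.Rpush f).obj ((DCoh.LTensorMod G).obj E))) := by
    rintro g₁ g₂ rfl _ _ h
    exact h
  exact PerfLib.isPC_of_iso r (h2 _ _ hι inferInstance inferInstance h1)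

end KiehlLib
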