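import Groth.Agent.KiehlLib.Supp
import Groth.Agent.RelFlatLib.Basic
import Groth.Agent.S1688
import Groth.Agent.CohBCLib.Cons

/-!
# Direct images with vanishing higher cohomology are locally free
-/

set_option autoImplicit false
set_option backward.isDefEq.respectTransparency false
set_option backward.isDefEq.respectTransparency.types false
set_option maxHeartbeats 1000000
set_option synthInstance.maxHeartbeats 200000
set_option linter.style.haveILetI false

universe u

open CategoryTheory CategoryTheory.Limits AlgebraicGeometry HomologicalComplex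
open Groth.Agent

attribute [local instance] HasDerivedCategory.standard

namespace KiehlLib

variable {X S : Scheme.{u}}

/-- The cohomology of `Rf_*` of a module is computed by the higher direct images. -/
theorem nonempty_HD_rpush_inD (f : X ⟶ S) [HasInjectiveResolutions X.Modules] [DCoh.HasRpush f]
    (M : X.Modules) (k : ℕ) :
    Nonempty (DCoh.HD ((DCoh.Rpush f).obj (DCoh.inD X M)) (k : ℤ) ≅ (Coh.Rpush f k).obj M) := by
  let R := injectiveResolution M
  haveI : R.cochainComplex.IsKInjective := CochainComplex.isKInjective_of_injective _ 0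
  obtain ⟨eP⟩ := QRlimLib.nonempty_pushIso f R.cochainComplex
  let e := (DCoh.Rpush f).mapIso (((DerivedCategory.singleFunctorIsoCompQ X.Modules 0).app M) ≪≫
    asIso (DerivedCategory.Q.map R.ι')) ≪≫ eP
  exact ⟨((DerivedCategory.homologyFunctor S.Modules (k : ℤ)).mapIso e ≪≫
    (DerivedCategory.homologyFunctorFactors S.Modules (k : ℤ)).app _) ≪≫
    ((HomologicalComplex.homologyFunctor S.Modules (ComplexShape.up ℤ) (k : ℤ)).mapIso
        (SpSeqLib.mapExtendNatIso (Scheme.Modules.pushforward f) R.cocomplex) ≪≫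
      HomologicalComplex.extendHomologyIso _ ComplexShape.embeddingUpNat (j := k) (by simp) ≪≫
      (R.isoRightDerivedObj (Scheme.Modules.pushforward f) k).symm)⟩

/-- A module flat over the base has relative tor amplitude zero. -/
theorem hasTorAmplitude_single (f : X ⟶ S) (F : X.Modules) (h : FlatMod.IsFlatOver f F) :
    DerSch.HasTorAmplitude f 0 0 ((CochainComplex.singleFunctor X.Modules 0).obj F) := by
  refine RelFlatLib.amp_of_relFlatAmp f ⟨_, fun i hi => ?_, fun i => ?_, ⟨Iso.refl _⟩⟩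
  · exact isZero_single_obj_X _ _ _ _ (by rcases hi with hi | hi <;> omega)
  · by_cases hi : i = 0
    · subst hi
      exact fun x => (RichLib.ModFlat.isFlatOverAt_iso f
        (singleObjXSelf (ComplexShape.up ℤ) 0 F).symm x).1 (h x)
    · exact RelFlatLib.isFlatOver_of_isZero f (isZero_single_obj_X _ _ _ _ hi)

/-- Vanishing higher direct images make the direct image flat, over an affine base. -/
theorem isFlat_HD_rpush (g : X ⟶ S) [QuasiCompact g] [QuasiSeparated g] [QuasiSeparatedSpace ↥S]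
    [CompactSpace ↥S] [DCoh.HasRpush g] (F : X.Modules) [Coh.IsQCoh F] (hfl : FlatMod.IsFlatOver g F)
    (h : ((DCoh.Rpush g).obj (DCoh.inD X F)).IsLE 0) :
    FlatMod.IsFlat (DCoh.HD ((DCoh.Rpush g).obj (DCoh.inD X F)) 0) := by
  let T := (CochainComplex.singleFunctor X.Modules 0).obj F
  let eT : DCoh.inD X F ≅ DCoh.toD X T := (DerivedCategory.singleFunctorIsoCompQ X.Modules 0).app F
  obtain ⟨c, hc⟩ := PerfBaseLib.exists_torAmplitude_rpush g T
    (KFlatLib.isQCohD_iso eT (PerfBaseLib.isQCohD_inD F ‹_›))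
    (PerfBaseLib.tensorBounded_of_tor g T (hasTorAmplitude_single g F hfl))
  haveI : ((DCoh.Rpush g).obj (DCoh.toD X T)).IsLE 0 :=
    DerivedCategory.TStructure.t.isLE_of_iso ((DCoh.Rpush g).mapIso eT) 0
  have hc' : DCoh.HasTorAmplitudeIn 0 0 ((DCoh.Rpush g).obj (DCoh.toD X T)) := fun G _ i hi => by
    rcases hi with hi | hi
    · exact hc G i (Or.inl hi)
    · haveI := isLE_lTensorMod G ((DCoh.Rpush g).obj (DCoh.toD X T)) 0
      exact DerivedCategory.isZero_of_isLE _ 0 i hi
  obtain ⟨E, hE, hEf, ⟨eE⟩⟩ := KFlatLib.flatAmplitude_of_torAmplitude le_rfl hc'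
  refine KFlatLib.flat_of_iso ?_ (hEf 0)
  exact (ShortComplex.HomologyData.ofZeros (E.sc 0)
      ((hE _ (Or.inl (by simp))).eq_of_src _ _)
      ((hE _ (Or.inr (by simp))).eq_of_tgt _ _)).left.homologyIso.symm ≪≫
    (KFlatLib.hdToD E 0).symm ≪≫ (DerivedCategory.homologyFunctor S.Modules 0).mapIso
      (eE ≪≫ (DCoh.Rpush g).mapIso eT.symm)

/-- Higher direct images vanishing: the direct image is finite locally free. -/
theorem isFinLocFree_push (f : X ⟶ S) [LocallyOfFinitePresentation f] [QuasiCompact f] [QuasiSeparated f]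
    [HasInjectiveResolutions X.Modules] (F : X.Modules) [Coh.IsQCoh F] (hF : CohB1.IsFP F)
    (hfl : FlatMod.IsFlatOver f F) (hsupp : ClSub.IsProperOver f (CohB1.support F))
    (hvan : ∀ i : ℕ, 0 < i → IsZero ((Coh.Rpush f i).obj F)) :
    FlatMod.IsFinLocFree ((Coh.push f).obj F) := by
  haveI := Groth.Agent.DCohRestrLib.hasRpush f
  haveI := KFlatLib.hasLTensorMod F
  let K := (DCoh.Rpush f).obj (DCoh.inD X F)
  have hK : DCoh.IsPerfect K :=
    Groth.Agent.PerfLib.isPerfect_of_iso ((DCoh.Rpush f).mapIso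
      (KFlatLib.lTensorModObjIso F _ (PerfBaseLib.isKFlat_unitCx X) ≪≫ PerfBaseLib.inDTwistIso F))
      (isPerfect_rpush_lTensor_supp f _ (PerfBaseLib.isPerfect_unitCx X) F hF hfl hsupp)
  haveI hKle : K.IsLE 0 := (DerivedCategory.isLE_iff _ _).2 fun i hi => by
    obtain ⟨k, rfl⟩ := Int.eq_ofNat_of_zero_le hi.le
    obtain ⟨e⟩ := nonempty_HD_rpush_inD f F k
    exact (hvan k (by omega)).of_iso e
  obtain ⟨e₀⟩ := nonempty_HD_rpush_inD f F 0
  let eM : DCoh.HD K 0 ≅ (Coh.push f).obj F := e₀ ≪≫ CohBCLib.rpushZero f F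
  have hfp : CohB1.IsFP (DCoh.HD K 0) := by
    simpa using Groth.Agent.PerfLib.isFP_HD_top (m := -1) (K := K) (((Groth.Agent.S0914.result _).1 hK).1 _)
      fun i hi => DerivedCategory.isZero_of_isLE K 0 i (by omega)
  have hflat : ∀ (W : S.Opens), IsAffineOpen W →
      FlatMod.IsFlat ((Scheme.Modules.pullback W.ι).obj (DCoh.HD K 0)) := fun W hW => by
    haveI : IsAffine (W : Scheme.{u}) := hW
    haveI := KFlatLib.hasLpull W.ι
    haveI := Groth.Agent.DCohRestrLib.hasRpush (f ∣_ W)
    haveI : QuasiCompact (f ∣_ W) := MorphismProperty.of_isPullback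
      (isPullback_morphismRestrict f W).flip inferInstance
    haveI : QuasiSeparated (f ∣_ W) := MorphismProperty.of_isPullback
      (isPullback_morphismRestrict f W).flip inferInstance
    let F' := (Scheme.Modules.pullback (f ⁻¹ᵁ W).ι).obj F
    haveI : Coh.IsQCoh F' := KFlatLib.isQCoh_pullback _ F
    have hfl' : FlatMod.IsFlatOver (f ∣_ W) F' := fun x => (RichLib.ModFlat.isFlatOverAt_congr (f := f)
      (f ⁻¹ᵁ W).ι W.ι (isPullback_morphismRestrict f W).flip.w.symm (Iso.refl _) x).2 (hfl _)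
    obtain ⟨c⟩ := PerfBaseLib.nonempty_baseChange_inD (isPullback_morphismRestrict f W).flip F ‹_› hfl
    obtain ⟨r⟩ := PerfBaseLib.nonempty_lpull_restrictD (U := (W : Scheme.{u})) W K
    let eW : (DCoh.restrictD W.ι).obj K ≅ (DCoh.Rpush (f ∣_ W)).obj (DCoh.inD _ F') := r.symm ≪≫ c
    haveI : ((DCoh.Rpush (f ∣_ W)).obj (DCoh.inD _ F')).IsLE 0 := (DerivedCategory.isLE_iff _ _).2
      fun i hi => (((Scheme.Modules.restrictFunctor W.ι).map_isZero
        (DerivedCategory.isZero_of_isLE K 0 i hi)).of_iso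
          (Groth.Agent.DCohRestrLib.restrictHDIso W.ι K i)).of_iso
        ((DerivedCategory.homologyFunctor _ i).mapIso eW.symm)
    refine KFlatLib.flat_of_iso ?_ (isFlat_HD_rpush (f ∣_ W) F' hfl' inferInstance)
    exact (DerivedCategory.homologyFunctor _ 0).mapIso eW.symm ≪≫
      Groth.Agent.DCohRestrLib.restrictHDIso W.ι K 0 ≪≫
      (Scheme.Modules.restrictFunctorIsoPullback W.ι).app _
  refine KFlatLib.isFinLocFree_of_freeNear fun s => ?_
  obtain ⟨W, hW, hs⟩ := QCohLib.exists_affine_nhd s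
  let M := (Coh.push f).obj F
  have hfl₂ : FlatMod.IsFlat ((Scheme.Modules.pullback W.ι).obj M) :=
    KFlatLib.flat_of_iso ((Scheme.Modules.pullback W.ι).mapIso eM) (hflat W hW)
  have hfp₂ : CohB1.IsFP ((Scheme.Modules.pullback W.ι).obj M) :=
    RichLib.ModFlat.isFP_pullback W.ι (Groth.Agent.PerfLib.isFP_of_iso' eM hfp)
  obtain ⟨O, n, hO, ⟨e⟩⟩ :=
    Groth.Agent.S1688.isFinLocFree_of_isFP_of_flat hfp₂ hfl₂ (⟨s, hs⟩ : (W : Scheme.{u}))
  exact KFlatLib.freeNear_of_pullback (U := W) ⟨s, hs⟩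
    ⟨O, hO, n, ⟨((Scheme.Modules.restrictFunctorIsoPullback O.ι).app _).symm ≪≫ e⟩⟩

end KiehlLib
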