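import Groth.Agent.KiehlLib.Supp

/-!
# Pseudo-coherence of twisted direct images with proper support
-/

set_option autoImplicit false
set_option backward.isDefEq.respectTransparency false
set_option backward.isDefEq.respectTransparency.types false
set_option maxHeartbeats 1000000
set_option synthInstance.maxHeartbeats 200000
set_option linter.style.haveILetI false

universe u

open CategoryTheory CategoryTheory.Limits AlgebraicGeometry
open Groth.Agent

attribute [local instance] HasDerivedCategory.standard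

namespace KiehlLib

variable {X S : Scheme.{u}}

/-- A module in degree zero tensored with a K-flat complex is the derived twist. -/
theorem nonempty_lTensorCx_inD (P : CochainComplex X.Modules ℤ) (hP : DCoh.IsKFlat P)
    [DCoh.HasLTensorCx P] (G : X.Modules) [DCoh.HasLTensorMod G] :
    Nonempty ((DCoh.LTensorCx P).obj (DCoh.inD X G) ≅ (DCoh.LTensorMod G).obj (DCoh.toD X P)) := by
  let G₀ := (CochainComplex.singleFunctor X.Modules 0).obj G
  haveI := TensorAssocLib.isIso_cnt P hP G₀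
  exact ⟨(DCoh.LTensorCx P).mapIso ((DerivedCategory.singleFunctorIsoCompQ X.Modules 0).app G) ≪≫
    asIso ((TensorAssocLib.cnt P).app G₀) ≪≫
    DerivedCategory.Q.mapIso (KFlatLib.tCxFlip P G₀ ≪≫
      ((Groth.Agent.PerfDualLib.Gen.tRSingleIso (DCoh.tensorBi (X := X)) G).app P).symm) ≪≫
    (KFlatLib.lTensorModObjIso G P hP).symm⟩

/-- **Twisted direct images with proper support are pseudo-coherent.** -/
theorem isPC_rpush_lTensor_supp (f : X ⟶ S) [LocallyOfFinitePresentation f]
    (E : DCoh.D X) (hE : ∀ m : ℤ, DCoh.IsPseudoCoherentD m E) (G : X.Modules) [Coh.IsQCoh G]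
    (hG : CohB1.IsFP G) (hflat : FlatMod.IsFlatOver f G)
    (hsupp : ClSub.IsProperOver f (CohB1.support G))
    [DCoh.HasLTensorMod G] [DCoh.HasRpush f] (m : ℤ) :
    DCoh.IsPseudoCoherentD m ((DCoh.Rpush f).obj ((DCoh.LTensorMod G).obj E)) := by
  obtain ⟨Z, i, hi, hlfp, hr, hk⟩ := exists_supp_model G hG
  haveI : IsProper (i ≫ f) := ProperOverLib.isProper_comp_closedImmersion hsupp i hr
  haveI := DevissLib.isIso_unit_of_killed i hk
  let G' := (Scheme.Modules.pullback i).obj G
  haveI : Coh.IsQCoh G' := KFlatLib.isQCoh_pullback i G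
  haveI := KFlatLib.hasLpull i
  haveI := Groth.Agent.DCohRestrLib.hasRpush i
  haveI := Groth.Agent.DCohRestrLib.hasRpush (i ≫ f)
  haveI := KFlatLib.hasLpull f
  haveI := KFlatLib.hasLpull (i ≫ f)
  obtain ⟨P, hP, ⟨eP⟩⟩ := KFlatLib.exists_good_rep E
  have hPq : DCoh.IsQCohD (DCoh.toD X P) := KFlatLib.isQCohD_iso eP.symm (isQCohD_of_isPC hE)
  let P' := (KFlatLib.pullCx i).obj P
  have hP' : DCoh.IsKFlat P' := KFlatLib.isKFlat_pull i hP.1
  haveI := KFlatLib.hasLTensorCx P
  haveI := KFlatLib.hasLTensorCx P'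
  haveI : DCoh.HasLTensorCx ((ProjFormLib.pullC i).obj P) := KFlatLib.hasLTensorCx _
  haveI := KFlatLib.hasLTensorMod G'
  obtain ⟨eproj⟩ := ProjFormLib.nonempty_projection_qcoh i P hP.1 hPq (DCoh.inD Z G')
    (PerfBaseLib.isQCohD_inD G' ‹_›)
  haveI := isIso_pushSingle i 0 G' ‹_›
  let eG : DCoh.inD X G ≅ (DCoh.Rpush i).obj (DCoh.inD Z G') :=
    (DerivedCategory.singleFunctor X.Modules 0).mapIso
        (asIso ((Scheme.Modules.pullbackPushforwardAdjunction i).unit.app G)) ≪≫
      asIso ((pushSingle i 0).app G')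
  obtain ⟨e₀⟩ := nonempty_lTensorCx_inD P hP.1 G
  obtain ⟨e₁⟩ := nonempty_lTensorCx_inD P' hP' G'
  obtain ⟨c⟩ := KFlatLib.rpush_comp i f
  refine Groth.Agent.PerfLib.isPC_of_iso
    ((c.app _).symm ≪≫ (DCoh.Rpush f).mapIso ((DCoh.Rpush i).mapIso e₁.symm ≪≫ eproj.symm ≪≫
      (DCoh.LTensorCx P).mapIso eG.symm ≪≫ e₀ ≪≫ (DCoh.LTensorMod G).mapIso eP)) ?_
  exact isPC_rpush_lTensor (i ≫ f) G' (RichLib.ModFlat.isFP_pullback i hG)
    (isFlatOver_pullback_killed i hk f hflat) _
    (fun k => Groth.Agent.PerfLib.isPC_of_iso (KFlatLib.lpullObjIso i P hP.1)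
      (Groth.Agent.S0910.result i k _ (Groth.Agent.PerfLib.isPC_of_iso eP.symm (hE k)))) m

end KiehlLib
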