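import Groth.Agent.KiehlLib.Perfect
import Groth.Agent.FittLib.Props
import Groth.Agent.FittLib.Sheaf
import Groth.Agent.FittStratLib.Generic
import Groth.Agent.DevissLib.KilledImm
import Groth.Agent.S1117

/-!
# Twists by finitely presented modules with proper support
-/

set_option autoImplicit false
set_option backward.isDefEq.respectTransparency false
set_option backward.isDefEq.respectTransparency.types false
set_option maxHeartbeats 1000000
set_option synthInstance.maxHeartbeats 200000
set_option linter.style.haveILetI false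

universe u

open CategoryTheory CategoryTheory.Limits AlgebraicGeometry Opposite
open scoped TensorProduct
open Groth.Agent

attribute [local instance] HasDerivedCategory.standard

namespace KiehlLib

variable {X S : Scheme.{u}}

/-- A finitely presented module comes from a closed subscheme of finite presentation with the same
underlying set as its support. -/
theorem exists_supp_model (G : X.Modules) [Coh.IsQCoh G] (hG : CohB1.IsFP G) :
    ∃ (Z : Scheme.{u}) (i : Z ⟶ X) (_ : IsClosedImmersion i) (_ : LocallyOfFinitePresentation i),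
      Set.range i ⊆ CohB1.support G ∧ ClSub.KilledByIdeal i.ker G := by
  have hft : CohB1.IsFT G :=
    haveI : SheafOfModules.IsFinitePresentation (R := X.ringCatSheaf) G := hG
    inferInstance
  let I := Fitt.sheafIdeal G 0
  have hfg : ∀ U : X.affineOpens, (I.ideal U).FG := fun U => by
    rw [FittLib.sheafIdeal_ideal G hft 0 U]
    haveI := FittLib.finitePresentation_affine G hG U.2
    exact FittLib.ideal_fg 0
  refine ⟨I.subscheme, I.subschemeι, inferInstance, FittStratLib.lfp_subschemeι I hfg, ?_, ?_⟩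
  · rw [Scheme.IdealSheafData.range_subschemeι]
    exact fun x hx => (FittLib.mem_support_zero_iff G hft x).1 hx
  · rw [Scheme.IdealSheafData.ker_subschemeι]
    intro U a ha m
    haveI := QCohLib.finite_of_isFT hft U.2
    rw [FittLib.sheafIdeal_ideal G hft 0 U] at ha
    exact Module.mem_annihilator.1 (FittLib.ideal_le_annihilator ha) m

theorem flat_of_semilinear_bijective {R A B : Type u} [CommRing R] [CommRing A] [CommRing B]
    (α : R →+* A) (β : A →+* B) (γ : R →+* B) (h : γ = β.comp α) {M N : Type u} [AddCommGroup M]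
    [AddCommGroup N] [Module A M] [Module B N] (φ : M →+ N) (hb : Function.Bijective φ)
    (hs : ∀ (a : A) (m : M), φ (a • m) = β a • φ m)
    (hM : letI := Module.compHom M α; Module.Flat R M) :
    letI := Module.compHom N γ; Module.Flat R N := by
  letI := Module.compHom M α
  letI := Module.compHom N γ
  haveI : Module.Flat R M := hM
  let l : M →ₗ[R] N :=
    { φ with map_smul' := fun r m => (hs (α r) m).trans (congrArg (· • φ m) (by rw [h]; rfl)) }
  exact Module.Flat.of_linearEquiv (LinearEquiv.ofBijective l hb).symm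

/-- Flatness over the base of the model on the closed subscheme. -/
theorem isFlatOver_pullback_killed {Z : Scheme.{u}} (i : Z ⟶ X) [IsClosedImmersion i] {G : X.Modules}
    (hk : ClSub.KilledByIdeal i.ker G) (f : X ⟶ S) (hfl : FlatMod.IsFlatOver f G) :
    FlatMod.IsFlatOver (i ≫ f) ((Scheme.Modules.pullback i).obj G) := by
  intro z
  letI := (i.stalkMap z).hom.toAlgebra
  let inv := ((KFlatLib.stalkPullIso i z).inv.app G).hom
  let φ : (DevissLib.St (i z)).obj G →+ (DevissLib.St z).obj ((Scheme.Modules.pullback i).obj G) :=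
    inv.toAddMonoidHom.comp
      ((TensorProduct.mk (X.presheaf.stalk (i z)) (Z.presheaf.stalk z) ((DevissLib.St (i z)).obj G))
        1).toAddMonoidHom
  refine flat_of_semilinear_bijective (f.stalkMap (i z)).hom (i.stalkMap z).hom
    ((i ≫ f).stalkMap z).hom (by rw [Scheme.Hom.stalkMap_comp]; rfl) φ
    (DevissLib.bijective_stalk_puSec i hk z) (fun a m => ?_) (hfl (i z))
  refine Eq.trans ?_ (map_smul inv (i.stalkMap z a)
    ((1 : Z.presheaf.stalk z) ⊗ₜ[X.presheaf.stalk (i z)] m))
  refine congrArg inv ((TensorProduct.smul_tmul a (1 : Z.presheaf.stalk z) m).symm.trans ?_)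
  rfl

/-- **Twisted direct images with proper support are perfect.** -/
theorem isPerfect_rpush_lTensor_supp (f : X ⟶ S) [LocallyOfFinitePresentation f]
    (E : DCoh.D X) (hE : DCoh.IsPerfect E) (G : X.Modules) [Coh.IsQCoh G] (hG : CohB1.IsFP G)
    (hflat : FlatMod.IsFlatOver f G) (hsupp : ClSub.IsProperOver f (CohB1.support G))
    [DCoh.HasLTensorMod G] [DCoh.HasRpush f] :
    DCoh.IsPerfect ((DCoh.Rpush f).obj ((DCoh.LTensorMod G).obj E)) := by
  obtain ⟨Z, i, hi, hlfp, hr, hk⟩ := exists_supp_model G hG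
  haveI : IsProper (i ≫ f) := ProperOverLib.isProper_comp_closedImmersion hsupp i hr
  haveI := DevissLib.isIso_unit_of_killed i hk
  let G' := (Scheme.Modules.pullback i).obj G
  haveI : Coh.IsQCoh G' := KFlatLib.isQCoh_pullback i G
  haveI := KFlatLib.hasLpull i
  haveI := Groth.Agent.DCohRestrLib.hasRpush i
  haveI := Groth.Agent.DCohRestrLib.hasRpush (i ≫ f)
  haveI := KFlatLib.hasLpull f
  haveI := KFlatLib.hasLpull (i ≫ f)
  obtain ⟨P, hP, ⟨eP⟩⟩ := KFlatLib.exists_good_rep E
  have hper : DCoh.IsPerfect (DCoh.toD X P) := Groth.Agent.PerfLib.isPerfect_of_iso eP.symm hE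
  have hPq : DCoh.IsQCohD (DCoh.toD X P) := isQCohD_of_isPC ((Groth.Agent.S0914.result _).1 hper).1
  let P' := (KFlatLib.pullCx i).obj P
  have hP' : DCoh.IsKFlat P' := KFlatLib.isKFlat_pull i hP.1
  haveI := KFlatLib.hasLTensorCx P
  haveI := KFlatLib.hasLTensorCx P'
  haveI : DCoh.HasLTensorCx ((ProjFormLib.pullC i).obj P) := KFlatLib.hasLTensorCx _
  haveI := KFlatLib.hasLTensorMod G'
  obtain ⟨eproj⟩ := ProjFormLib.nonempty_projection_qcoh i P hP.1 hPq (DCoh.inD Z G')
    (PerfBaseLib.isQCohD_inD G' ‹_›)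
  haveI := isIso_pushSingle i 0 G' ‹_›
  let eG : DCoh.inD X G ≅ (DCoh.Rpush i).obj (DCoh.inD Z G') :=
    (DerivedCategory.singleFunctor X.Modules 0).mapIso
        (asIso ((Scheme.Modules.pullbackPushforwardAdjunction i).unit.app G)) ≪≫
      asIso ((pushSingle i 0).app G')
  let G₀ := (CochainComplex.singleFunctor X.Modules 0).obj G
  let G₁ := (CochainComplex.singleFunctor Z.Modules 0).obj G'
  haveI := TensorAssocLib.isIso_cnt P hP.1 G₀
  haveI := TensorAssocLib.isIso_cnt P' hP' G₁
  let e₀ : (DCoh.LTensorMod G).obj E ≅ (DCoh.LTensorCx P).obj (DCoh.inD X G) :=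
    (DCoh.LTensorMod G).mapIso eP.symm ≪≫ KFlatLib.lTensorModObjIso G P hP.1 ≪≫
      (DerivedCategory.Q.mapIso (KFlatLib.tCxFlip P G₀ ≪≫
        ((Groth.Agent.PerfDualLib.Gen.tRSingleIso (DCoh.tensorBi (X := X)) G).app P).symm)).symm ≪≫
      (asIso ((TensorAssocLib.cnt P).app G₀)).symm ≪≫
      ((DCoh.LTensorCx P).mapIso ((DerivedCategory.singleFunctorIsoCompQ X.Modules 0).app G)).symm
  let e₁ : (DCoh.LTensorCx P').obj (DCoh.inD Z G') ≅ (DCoh.LTensorMod G').obj (DCoh.toD Z P') :=
    (DCoh.LTensorCx P').mapIso ((DerivedCategory.singleFunctorIsoCompQ Z.Modules 0).app G') ≪≫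
      asIso ((TensorAssocLib.cnt P').app G₁) ≪≫
      DerivedCategory.Q.mapIso (KFlatLib.tCxFlip P' G₁ ≪≫
        ((Groth.Agent.PerfDualLib.Gen.tRSingleIso (DCoh.tensorBi (X := Z)) G').app P').symm) ≪≫
      (KFlatLib.lTensorModObjIso G' P' hP').symm
  obtain ⟨c⟩ := KFlatLib.rpush_comp i f
  refine Groth.Agent.PerfLib.isPerfect_of_iso
    ((c.app _).symm ≪≫ (DCoh.Rpush f).mapIso ((DCoh.Rpush i).mapIso e₁.symm ≪≫ eproj.symm ≪≫
      (DCoh.LTensorCx P).mapIso eG.symm ≪≫ e₀.symm)) ?_
  exact isPerfect_rpush_lTensor (i ≫ f) G' (RichLib.ModFlat.isFP_pullback i hG)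
    (isFlatOver_pullback_killed i hk f hflat) _
    (Groth.Agent.PerfLib.isPerfect_of_iso (KFlatLib.lpullObjIso i P hP.1) (Groth.Agent.S0921.result i _ hper))

end KiehlLib
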