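import Groth.Agent.TildeDerLib.Affine
import Groth.Agent.TildeDerLib.Push
import Groth.Agent.KFlatLib.LpullAdj
import Groth.Agent.QCohLib.Acyclic
import Groth.Agent.PerfBaseLib.FlatProper
import Groth.Agent.S7245
import Groth.Agent.CohCmpLib.Cosyz
import Mathlib.Algebra.Category.ModuleCat.EnoughInjectives
import Mathlib.Algebra.Homology.DerivedCategory.Ext.EnoughInjectives

/-!
# Quasi-coherent modules without higher maps from quasi-coherent modules

On a separated quasi-compact scheme every quasi-coherent module embeds in a quasi-coherent one that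
receives no nonzero map of positive degree from a quasi-coherent module.
-/

set_option autoImplicit false
set_option backward.isDefEq.respectTransparency false
set_option backward.isDefEq.respectTransparency.types false
set_option maxHeartbeats 1000000
set_option linter.style.haveILetI false

universe u

open CategoryTheory CategoryTheory.Limits AlgebraicGeometry Opposite
open Groth.Agent

attribute [local instance] HasDerivedCategory.standard

namespace KiehlLib

variable {X Y : Scheme.{u}}

/-- No maps of positive degree from quasi-coherent modules. -/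
def HomAcyclic (I : X.Modules) : Prop :=
  ∀ S : X.Modules, Coh.IsQCoh S → ∀ i : ℤ, i < 0 →
    ∀ φ : DCoh.inD X S ⟶ (DerivedCategory.singleFunctor X.Modules i).obj I, φ = 0

theorem homAcyclic_tilde (R : CommRingCat.{u}) (J : ModuleCat.{u} R) [Injective J] :
    HomAcyclic ((tilde.functor R).obj J) := by
  intro S hS i hi φ
  haveI : S.IsQuasicoherent := hS
  let N := (moduleSpecΓFunctor (R := R)).obj S
  let eS : DCoh.inD (Spec R) S ≅ (DCoh.tildeD R).obj ((DerivedCategory.singleFunctor _ 0).obj N) :=
    (DerivedCategory.singleFunctor _ 0).mapIso (asIso S.fromTildeΓ).symm ≪≫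
      (((tilde.functor R).mapDerivedCategorySingleFunctor 0).app N).symm
  let eJ : (DerivedCategory.singleFunctor _ i).obj ((tilde.functor R).obj J) ≅
      (DCoh.tildeD R).obj ((DerivedCategory.singleFunctor _ i).obj J) :=
    (((tilde.functor R).mapDerivedCategorySingleFunctor i).app J).symm
  suffices h : eS.inv ≫ φ ≫ eJ.hom = 0 by
    calc φ = eS.hom ≫ (eS.inv ≫ φ ≫ eJ.hom) ≫ eJ.inv := by simp
      _ = 0 := by rw [h, zero_comp, comp_zero]
  haveI : ((DerivedCategory.singleFunctor (ModuleCat.{u} R) 0).obj N).IsGE 0 := inferInstance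
  have hz : ∀ χ : (DerivedCategory.singleFunctor (ModuleCat.{u} R) 0).obj N ⟶
      (DerivedCategory.singleFunctor _ i).obj J, χ = 0 := fun χ => by
    let c₀ := (DerivedCategory.singleFunctorIsoCompQ (ModuleCat.{u} R) 0).app N
    let cᵢ := (DerivedCategory.singleFunctorIsoCompQ (ModuleCat.{u} R) i).app J
    have := DerivedCategory.to_singleFunctor_obj_eq_zero_of_injective (c₀.inv ≫ χ ≫ cᵢ.hom) 0 hi
    calc χ = c₀.hom ≫ (c₀.inv ≫ χ ≫ cᵢ.hom) ≫ cᵢ.inv := by simp
      _ = 0 := by rw [this, zero_comp, comp_zero]
  let A := TildeDerLib.adjD R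
  haveI : (TildeDerLib.RGamma R).IsRightAdjoint := ⟨_, ⟨A⟩⟩
  apply (A.homEquiv _ _).injective
  haveI := NatTrans.isIso_iff_isIso_app (A.unit) |>.1 (TildeDerLib.isIso_unit R)
    ((DerivedCategory.singleFunctor _ i).obj J)
  have h1 := hz ((A.homEquiv _ _) (eS.inv ≫ φ ≫ eJ.hom) ≫
    inv (A.unit.app ((DerivedCategory.singleFunctor _ i).obj J)))
  rw [← cancel_mono (inv (A.unit.app ((DerivedCategory.singleFunctor _ i).obj J)))]
  refine h1.trans ?_
  rw [Adjunction.homEquiv_unit, Functor.map_zero, comp_zero, zero_comp]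

/-- A direct image along an affine morphism of a module in one degree. -/
theorem nonempty_rpush_single (f : X ⟶ Y) [IsAffineHom f] [DCoh.HasRpush f] (M : X.Modules)
    (hM : Coh.IsQCoh M) (i : ℤ) :
    Nonempty ((DCoh.Rpush f).obj ((DerivedCategory.singleFunctor X.Modules i).obj M) ≅
      (DerivedCategory.singleFunctor Y.Modules i).obj ((Scheme.Modules.pushforward f).obj M)) := by
  let F := (CochainComplex.singleFunctor X.Modules i).obj M
  have hq : ∀ n : ℤ, Coh.IsQCoh (F.X n) := fun n => by
    by_cases hn : n = i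
    · subst hn
      exact @QCohLib.isQCoh_of_iso _ _ _
        (HomologicalComplex.singleObjXSelf (ComplexShape.up ℤ) n M).symm hM
    · exact KFlatLib.isQCoh_zero (HomologicalComplex.isZero_single_obj_X _ _ _ _ hn)
  haveI := Groth.Agent.S7245.result f F hq
  exact ⟨(DCoh.Rpush f).mapIso ((DerivedCategory.singleFunctorIsoCompQ X.Modules i).app M ≪≫
      ((DerivedCategory.quotientCompQhIso X.Modules).app F).symm) ≪≫
    (asIso (((DCoh.pushKh f).totalRightDerivedUnit DerivedCategory.Qh
      (HomotopyCategory.quasiIso X.Modules (ComplexShape.up ℤ))).app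
      ((HomotopyCategory.quotient X.Modules (ComplexShape.up ℤ)).obj F))).symm ≪≫
    DerivedCategory.Qh.mapIso
      (((Scheme.Modules.pushforward f).mapHomotopyCategoryFactors (ComplexShape.up ℤ)).app F) ≪≫
    (DerivedCategory.quotientCompQhIso Y.Modules).app _ ≪≫
    DerivedCategory.Q.mapIso ((HomologicalComplex.singleMapHomologicalComplex
      (Scheme.Modules.pushforward f) (ComplexShape.up ℤ) i).app M) ≪≫
    ((DerivedCategory.singleFunctorIsoCompQ Y.Modules i).app _).symm⟩

/-- Direct images along affine open immersions keep the property. -/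
theorem homAcyclic_push (j : Y ⟶ X) [IsOpenImmersion j] [IsAffineHom j] {I : Y.Modules}
    (hI : Coh.IsQCoh I) (h : HomAcyclic I) : HomAcyclic ((Scheme.Modules.pushforward j).obj I) := by
  intro S hS i hi φ
  haveI := hS
  haveI := Groth.Agent.DCohRestrLib.hasRpush j
  haveI := KFlatLib.hasLpull j
  obtain ⟨c⟩ := nonempty_rpush_single j I hI i
  obtain ⟨r⟩ := Groth.Agent.PerfFibreLib.nonempty_lpull_res j (DCoh.inD X S)
  let eS : (DCoh.Lpull j).obj (DCoh.inD X S) ≅ DCoh.inD Y ((Scheme.Modules.pullback j).obj S) :=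
    r ≪≫ ((Scheme.Modules.restrictFunctor j).mapDerivedCategorySingleFunctor 0).app S ≪≫
      (DerivedCategory.singleFunctor _ 0).mapIso ((Scheme.Modules.restrictFunctorIsoPullback j).app S)
  let A := KFlatLib.lpullRpushAdj j
  have h1 : (A.homEquiv _ _).symm (φ ≫ c.inv) = 0 := by
    rw [← cancel_epi eS.inv, comp_zero]
    exact h _ (KFlatLib.isQCoh_pullback j S) i hi _
  haveI : (DCoh.Lpull j).IsLeftAdjoint := ⟨_, ⟨A⟩⟩
  haveI : (DCoh.Rpush j).IsRightAdjoint := ⟨_, ⟨A⟩⟩
  have h2 : φ ≫ c.inv = 0 := by
    rw [← (A.homEquiv _ _).apply_symm_apply (φ ≫ c.inv), h1, Adjunction.homEquiv_unit, Functor.map_zero,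
      comp_zero]
  rw [← cancel_mono c.inv, h2, zero_comp]

theorem homAcyclic_of_isZero {M : X.Modules} (h : IsZero M) : HomAcyclic M := fun _ _ i _ φ =>
  ((DerivedCategory.singleFunctor X.Modules i).map_isZero h).eq_of_tgt φ 0

theorem homAcyclic_biprod {M N : X.Modules} (hM : HomAcyclic M) (hN : HomAcyclic N) :
    HomAcyclic (M ⊞ N) := by
  intro S hS i hi φ
  let F := DerivedCategory.singleFunctor X.Modules i
  calc φ = φ ≫ F.map (biprod.fst ≫ biprod.inl + biprod.snd ≫ biprod.inr) :=
        (Category.comp_id φ).symm.trans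
          (congrArg (φ ≫ ·) ((F.map_id _).symm.trans (congrArg F.map biprod.total.symm)))
    _ = (φ ≫ F.map biprod.fst) ≫ F.map biprod.inl + (φ ≫ F.map biprod.snd) ≫ F.map biprod.inr := by
        rw [Functor.map_add, Preadditive.comp_add, Functor.map_comp, Functor.map_comp, Category.assoc,
          Category.assoc]
    _ = 0 := by rw [hM S hS i hi (φ ≫ F.map biprod.fst), hN S hS i hi (φ ≫ F.map biprod.snd)]; simp

/-- Every quasi-coherent module embeds in one without higher maps. -/
theorem exists_homAcyclic_envelope [CompactSpace ↥X]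
    (hd : ∀ V W : X.Opens, IsAffineOpen V → IsAffineOpen W → IsAffineOpen (V ⊓ W))
    (M : X.Modules) [Coh.IsQCoh M] :
    ∃ (I : X.Modules) (ι : M ⟶ I), Mono ι ∧ Coh.IsQCoh I ∧ HomAcyclic I := by
  classical
  have key : ∀ t : Finset X.affineOpens, ∃ (I : X.Modules) (ι : M ⟶ I), Coh.IsQCoh I ∧ HomAcyclic I ∧
      ∀ U ∈ t, Mono ((Scheme.Modules.restrictFunctor U.1.ι).map ι) := by
    intro t
    induction t using Finset.induction_on with
    | empty =>
      refine ⟨⊥_ X.Modules, 0, QCohLib.isQCoh_of_isZero ?_, homAcyclic_of_isZero ?_, by simp⟩ <;>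
        exact initialIsInitial.isZero
    | insert U t _ ih =>
      obtain ⟨I, ι, hI, hA, hm⟩ := ih
      let R := Γ(X, U.1)
      let j : Spec R ⟶ X := U.2.fromSpec
      haveI : IsAffineHom j := by
        haveI := QCohLib.isAffineHom_ι U.1 U.2 hd
        have : j = U.2.isoSpec.inv ≫ U.1.ι := U.2.isoSpec_inv_ι.symm
        rw [this]
        infer_instance
      let MU := (Scheme.Modules.restrictFunctor j).obj M
      haveI : MU.IsQuasicoherent := @QCohLib.isQCoh_of_iso _ _ _
        ((Scheme.Modules.restrictFunctorIsoPullback j).app M).symm (KFlatLib.isQCoh_pullback j M)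
      haveI : IsIso MU.fromTildeΓ :=
        Scheme.Modules.isIso_fromTildeΓ_of_isQuasicoherent (R := R) MU
      let N := (moduleSpecΓFunctor (R := R)).obj MU
      let J := Injective.under N
      let a : MU ⟶ (tilde.functor R).obj J := inv MU.fromTildeΓ ≫ (tilde.functor R).map (Injective.ι N)
      haveI : Mono ((tilde.functor R).map (Injective.ι N)) :=
        Functor.map_mono (tilde.functor R) (Injective.ι N)
      haveI : Mono a := mono_comp _ _
      let A := Scheme.Modules.restrictAdjunction j
      let b := (A.homEquiv _ _) a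
      let I' := (Scheme.Modules.pushforward j).obj ((tilde.functor R).obj J)
      haveI hJ : Coh.IsQCoh ((tilde.functor R).obj J) :=
        inferInstanceAs ((tilde.functor R).obj J).IsQuasicoherent
      haveI : Coh.IsQCoh I' := QCohLib.isQCoh_pushforward j _
      refine ⟨I ⊞ I', biprod.lift ι b, @QCohLib.isQCoh_biprod _ I I' hI inferInstance,
        homAcyclic_biprod hA (homAcyclic_push j hJ (homAcyclic_tilde R J)), fun V hV => ?_⟩
      rcases Finset.mem_insert.1 hV with rfl | hV
      · have hb : (Scheme.Modules.restrictFunctor j).map b ≫ A.counit.app _ = a :=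
          (A.homEquiv_counit (g := b)).symm.trans (Equiv.symm_apply_apply _ _)
        haveI : Mono ((Scheme.Modules.restrictFunctor j).map (biprod.lift ι b)) := by
          haveI : Mono ((Scheme.Modules.restrictFunctor j).map (biprod.lift ι b) ≫
              ((Scheme.Modules.restrictFunctor j).map biprod.snd ≫ A.counit.app _)) := by
            rw [← Category.assoc, ← Functor.map_comp, biprod.lift_snd, hb]
            infer_instance
          exact mono_of_mono _ ((Scheme.Modules.restrictFunctor j).map biprod.snd ≫ A.counit.app _)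
        haveI : PreservesFiniteLimits (Scheme.Modules.restrictFunctor j) := inferInstance
        let l := V.2.isoSpec.hom
        have hl : l ≫ j = V.1.ι := by
          change V.2.isoSpec.hom ≫ V.2.fromSpec = _
          rw [← V.2.isoSpec_inv_ι]; exact V.2.isoSpec.hom_inv_id_assoc _
        haveI : Mono ((Scheme.Modules.restrictFunctor (l ≫ j)).map (biprod.lift ι b)) :=
          ((MorphismProperty.monomorphisms _).arrow_mk_iso_iff
            ((Functor.mapArrowFunctor _ _).mapIso (Scheme.Modules.restrictFunctorComp l j) |>.app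
              (Arrow.mk (biprod.lift ι b)))).2
            ((Scheme.Modules.restrictFunctor l).map_mono ((Scheme.Modules.restrictFunctor j).map (biprod.lift ι b)))
        exact ((MorphismProperty.monomorphisms _).arrow_mk_iso_iff
            ((Functor.mapArrowFunctor _ _).mapIso (Scheme.Modules.restrictFunctorCongr hl) |>.app
              (Arrow.mk (biprod.lift ι b)))).1 ‹_›
      · haveI := hm V hV
        haveI : Mono ((Scheme.Modules.restrictFunctor V.1.ι).map (biprod.lift ι b) ≫
            (Scheme.Modules.restrictFunctor V.1.ι).map biprod.fst) := by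
          rw [← Functor.map_comp, biprod.lift_fst]
          infer_instance
        exact mono_of_mono _ ((Scheme.Modules.restrictFunctor V.1.ι).map biprod.fst)
  obtain ⟨t, ht⟩ := isCompact_univ.elim_finite_subcover (fun V : X.affineOpens => (V.1 : Set X))
    (fun V => V.1.isOpen) (fun x _ => by
      obtain ⟨V, hV, hx, -⟩ := exists_isAffineOpen_mem_and_subset (X := X) (x := x) (U := ⊤) trivial
      exact Set.mem_iUnion.2 ⟨⟨V, hV⟩, hx⟩)
  obtain ⟨I, ι, hI, hA, hm⟩ := key t
  refine ⟨I, ι, ?_, hI, hA⟩
  refine CohCmpLib.mono_of_restrict ι (fun k : Fin t.card => (t.equivFin.symm k).1.1) ?_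
    (fun k => hm _ (t.equivFin.symm k).2)
  refine eq_top_iff.2 fun x _ => ?_
  obtain ⟨V, hVt, hxV⟩ := Set.mem_iUnion₂.1 (ht (Set.mem_univ x))
  exact TopologicalSpace.Opens.mem_iSup.2 ⟨t.equivFin ⟨V, hVt⟩, by simpa using hxV⟩

end KiehlLib
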