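import Groth.Agent.KiehlLib.Efface
import Groth.Agent.PerfHomLib.Trunc
import Groth.Agent.QRlimLib.Unbounded
import Groth.Agent.KFlatLib.TorAmpMore

/-!
# Coherent generators in the top degree for affine morphisms to Noetherian schemes
-/

set_option autoImplicit false
set_option backward.isDefEq.respectTransparency false
set_option backward.isDefEq.respectTransparency.types false
set_option maxHeartbeats 1000000
set_option synthInstance.maxHeartbeats 200000
set_option linter.style.haveILetI false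

universe u

open CategoryTheory CategoryTheory.Limits CategoryTheory.Pretriangulated AlgebraicGeometry Opposite
open Groth.Agent
open DerivedCategory.TStructure (t)

attribute [local instance] HasDerivedCategory.standard

namespace KiehlLib

variable {X Y : Scheme.{u}}

/-- The natural map `(f_*M)[-i] → Rf_*(M[-i])`. -/
noncomputable def pushSingle (f : X ⟶ Y) [DCoh.HasRpush f] (i : ℤ) :
    Scheme.Modules.pushforward f ⋙ DerivedCategory.singleFunctor Y.Modules i ⟶
      DerivedCategory.singleFunctor X.Modules i ⋙ DCoh.Rpush f where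
  app M :=
    ((DerivedCategory.singleFunctorIsoCompQ Y.Modules i).app _).hom ≫
      DerivedCategory.Q.map ((HomologicalComplex.singleMapHomologicalComplex
        (Scheme.Modules.pushforward f) (ComplexShape.up ℤ) i).inv.app M) ≫
      (DerivedCategory.quotientCompQhIso Y.Modules).inv.app _ ≫
      DerivedCategory.Qh.map (((Scheme.Modules.pushforward f).mapHomotopyCategoryFactors
        (ComplexShape.up ℤ)).inv.app _) ≫
      ((DCoh.pushKh f).totalRightDerivedUnit DerivedCategory.Qh
        (HomotopyCategory.quasiIso X.Modules (ComplexShape.up ℤ))).app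
        ((HomotopyCategory.quotient X.Modules (ComplexShape.up ℤ)).obj
          ((CochainComplex.singleFunctor X.Modules i).obj M)) ≫
      (DCoh.Rpush f).map (((DerivedCategory.quotientCompQhIso X.Modules).app _).hom ≫
        ((DerivedCategory.singleFunctorIsoCompQ X.Modules i).app M).inv)
  naturality M N g := by
    let S := CochainComplex.singleFunctor X.Modules i
    let P := Scheme.Modules.pushforward f
    let q := HomotopyCategory.quotient X.Modules (ComplexShape.up ℤ)
    have h1 := (DerivedCategory.singleFunctorIsoCompQ Y.Modules i).hom.naturality (P.map g)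
    have h2 := congrArg DerivedCategory.Q.map
      ((HomologicalComplex.singleMapHomologicalComplex P (ComplexShape.up ℤ) i).inv.naturality g)
    have h3 := (DerivedCategory.quotientCompQhIso Y.Modules).inv.naturality
      ((P.mapHomologicalComplex (ComplexShape.up ℤ)).map (S.map g))
    have h4 := congrArg DerivedCategory.Qh.map
      ((P.mapHomotopyCategoryFactors (ComplexShape.up ℤ)).inv.naturality (S.map g))
    have h5 := ((DCoh.pushKh f).totalRightDerivedUnit DerivedCategory.Qh
      (HomotopyCategory.quasiIso X.Modules (ComplexShape.up ℤ))).naturality (q.map (S.map g))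
    have h6 := congrArg (DCoh.Rpush f).map
      ((DerivedCategory.quotientCompQhIso X.Modules).hom.naturality (S.map g))
    have h7 := congrArg (DCoh.Rpush f).map
      ((DerivedCategory.singleFunctorIsoCompQ X.Modules i).inv.naturality g)
    simp only [Functor.comp_map, Functor.map_comp] at h1 h2 h3 h4 h5 h6 h7 ⊢
    dsimp at h1 h2 h3 h4 h5 h6 h7 ⊢
    simp only [Category.assoc]
    rw [reassoc_of% h1]
    erw [reassoc_of% h2, reassoc_of% h3, reassoc_of% h4, reassoc_of% h5, reassoc_of% h6]
    rw [← h7]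
    rfl

theorem isIso_pushSingle (f : X ⟶ Y) [IsAffineHom f] [DCoh.HasRpush f] (i : ℤ) (M : X.Modules)
    (hM : Coh.IsQCoh M) : IsIso ((pushSingle f i).app M) := by
  have hq : ∀ n : ℤ, Coh.IsQCoh (((CochainComplex.singleFunctor X.Modules i).obj M).X n) := fun n => by
    by_cases hn : n = i
    · subst hn
      exact @QCohLib.isQCoh_of_iso _ _ _
        (HomologicalComplex.singleObjXSelf (ComplexShape.up ℤ) n M).symm hM
    · exact KFlatLib.isQCoh_zero (HomologicalComplex.isZero_single_obj_X _ _ _ _ hn)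
  haveI := Groth.Agent.S7245.result f _ hq
  unfold pushSingle
  infer_instance

/-- Direct images along affine morphisms keep upper bounds. -/
theorem isLE_rpush_affine (f : X ⟶ Y) [IsAffineHom f] [DCoh.HasRpush f] (c : ℤ) (n : ℕ) :
    ∀ E : DCoh.D X, DCoh.IsQCohD E → E.IsGE (c + 1 - (n : ℤ)) → E.IsLE c →
      ((DCoh.Rpush f).obj E).IsLE c := by
  obtain ⟨_, _⟩ := QRlimLib.exists_isTriangulated_rpush f
  induction n with
  | zero =>
    intro E _ hge hle
    haveI := hle
    haveI : E.IsGE (c + 1) := by simpa using hge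
    have hz : IsZero E := t.isZero E c (c + 1) (by omega)
    exact t.isLE_of_isZero ((DCoh.Rpush f).map_isZero hz) c
  | succ n ih =>
    intro E hE hge hle
    haveI := hge
    haveI := hle
    let d : ℤ := c - (n : ℤ)
    let A := (t.truncLE d).obj E
    let B := (t.truncGT d).obj E
    haveI : A.IsLE d := inferInstance
    haveI : A.IsGE d := (DerivedCategory.isGE_iff _ _).2 fun q hq => by
      haveI := Groth.Agent.DerLib.Devissage.isIso_homology_truncLEι E d q (by omega)
      exact (DerivedCategory.isZero_of_isGE E (c + 1 - ((n + 1 : ℕ) : ℤ)) q (by omega)).of_iso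
        (asIso ((DerivedCategory.homologyFunctor X.Modules q).map ((t.truncLEι d).app E)))
    have hBge : B.IsGE (d + 1) := inferInstance
    haveI : B.IsGE (c + 1 - (n : ℤ)) := by
      rw [show c + 1 - (n : ℤ) = d + 1 by omega]
      exact hBge
    haveI : B.IsLE c := (DerivedCategory.isLE_iff _ _).2 fun q hq => by
      haveI := Groth.Agent.DerLib.Devissage.isIso_homology_truncGTπ E d q (by omega)
      exact (DerivedCategory.isZero_of_isLE E c q hq).of_iso
        (asIso ((DerivedCategory.homologyFunctor X.Modules q).map ((t.truncGTπ d).app E))).symm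
    have hAq : DCoh.IsQCohD A := QRlimLib.isQCohD_truncLE hE d
    have hBq : DCoh.IsQCohD B := KFlatLib.isQCohD₂
      (rot_of_distTriang _ (t.triangleLEGT_distinguished d E)) hE (KFlatLib.isQCohD_shift hAq 1)
    haveI := ih B hBq inferInstance inferInstance
    obtain ⟨eA⟩ := Groth.Agent.DerLib.Devissage.nonempty_iso_single A d
    haveI := isIso_pushSingle f d _ (hAq d)
    haveI : ((DCoh.Rpush f).obj A).IsLE c := by
      have h1 : ((DerivedCategory.singleFunctor Y.Modules d).obj
          ((Scheme.Modules.pushforward f).obj (DCoh.HD A d))).IsLE d := inferInstance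
      haveI : t.IsLE ((Scheme.Modules.pushforward f ⋙ DerivedCategory.singleFunctor Y.Modules d).obj
          (DCoh.HD A d)) d := h1
      have h2 : ((DCoh.Rpush f).obj A).IsLE d :=
        t.isLE_of_iso (asIso ((pushSingle f d).app _) ≪≫ (DCoh.Rpush f).mapIso eA.symm) d
      exact t.isLE_of_le _ d c (by omega)
    exact t.isLE₂ _ ((DCoh.Rpush f).map_distinguished _ (t.triangleLEGT_distinguished d E)) c
      ‹_› ‹_›

/-- A map from an object in degrees at most `b` to a module in degree `b` vanishes with its top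
cohomology. -/
theorem eq_zero_of_homology (K : DCoh.D X) (b : ℤ) [K.IsLE b] (Q : X.Modules)
    (g : K ⟶ (DerivedCategory.singleFunctor X.Modules b).obj Q)
    (h : (DerivedCategory.homologyFunctor X.Modules b).map g = 0) : g = 0 := by
  have hT := t.triangleLEGT_distinguished (b - 1) K
  haveI : ((DerivedCategory.singleFunctor X.Modules b).obj Q).IsGE b := inferInstance
  haveI : ((t.truncLE (b - 1)).obj K).IsLE (b - 1) := inferInstance
  haveI : t.IsLE ((t.triangleLEGT (b - 1)).obj K).obj₁ (b - 1) :=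
    (inferInstance : ((t.truncLE (b - 1)).obj K).IsLE (b - 1))
  obtain ⟨g', hg'⟩ := Triangle.yoneda_exact₂ _ hT g (t.zero _ (b - 1) b (by omega))
  let G := (t.truncGT (b - 1)).obj K
  haveI : G.IsGE b := by
    have : G.IsGE (b - 1 + 1) := inferInstance
    simpa using this
  haveI : G.IsLE b := (DerivedCategory.isLE_iff _ _).2 fun q hq => by
    haveI := Groth.Agent.DerLib.Devissage.isIso_homology_truncGTπ K (b - 1) q (by omega)
    exact (DerivedCategory.isZero_of_isLE K b q hq).of_iso
      (asIso ((DerivedCategory.homologyFunctor X.Modules q).map ((t.truncGTπ (b - 1)).app K))).symm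
  obtain ⟨eG⟩ := Groth.Agent.DerLib.Devissage.nonempty_iso_single G b
  obtain ⟨k, hk⟩ := (DerivedCategory.singleFunctor X.Modules b).map_surjective (eG.inv ≫ g')
  haveI := Groth.Agent.DerLib.Devissage.isIso_homology_truncGTπ K (b - 1) b (by omega)
  have h1 : (DerivedCategory.homologyFunctor X.Modules b).map g' = 0 := by
    rw [← cancel_epi ((DerivedCategory.homologyFunctor X.Modules b).map ((t.truncGTπ (b - 1)).app K)),
      comp_zero, ← Functor.map_comp]
    rw [hg'] at h
    exact h
  have h2 : k = 0 := by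
    have := (DerivedCategory.singleFunctorCompHomologyFunctorIso X.Modules b).hom.naturality k
    rw [Functor.comp_map, hk, Functor.map_comp, h1, comp_zero, zero_comp] at this
    exact (cancel_epi _).1 (this.symm.trans comp_zero.symm)
  have h3 : g' = 0 := by
    rw [← cancel_epi eG.inv, comp_zero, ← hk, h2, Functor.map_zero]
  rw [hg', h3, comp_zero]

/-- Derived inverse images keep upper bounds. -/
theorem isLE_lpull (q : X ⟶ Y) [DCoh.HasLpull q] (K : DCoh.D Y) (b : ℤ) [K.IsLE b] :
    ((DCoh.Lpull q).obj K).IsLE b := by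
  obtain ⟨K₀, ⟨e₀⟩⟩ : ∃ K₀, Nonempty (DCoh.toD Y K₀ ≅ K) :=
    ⟨_, ⟨DerivedCategory.Q.objObjPreimageIso K⟩⟩
  have hLE : K₀.IsLE b := by
    rw [CochainComplex.isLE_iff]
    intro i hi
    rw [HomologicalComplex.exactAt_iff_isZero_homology, ← KFlatLib.isZero_HD_iff e₀]
    exact DerivedCategory.isZero_of_isLE K b i hi
  haveI : QuasiIso (K₀.ιTruncLE b) := (CochainComplex.quasiIso_ιTruncLE_iff K₀ b).mpr hLE
  obtain ⟨L, α, hb, hflat, hα⟩ := KFlatLib.exists_flat_resolution (K₀.truncLE b) b
    (fun i hi => CochainComplex.isZero_of_isStrictlyLE _ b i hi)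
  let e : DCoh.toD Y L ≅ K := asIso (DerivedCategory.Q.map (α ≫ K₀.ιTruncLE b)) ≪≫ e₀
  refine (DerivedCategory.isLE_iff _ _).2 fun i hi => ?_
  refine (KFlatLib.isZero_HD_iff ((KFlatLib.lpullObjIso q L
    (KFlatLib.isKFlat_of_bounded_flat_mod L b hb hflat)).symm ≪≫ (DCoh.Lpull q).mapIso e) i).2 ?_
  exact (HomologicalComplex.exactAt_iff_isZero_homology _ _).1
    (ShortComplex.exact_of_isZero_X₂ _ ((Scheme.Modules.pullback q).map_isZero (hb i hi)))

/-- Coherent generation of direct images of modules of finite type. -/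
theorem exists_coh_generating [IsNoetherian Y] (q : X ⟶ Y) [IsAffineHom q] (H : X.Modules)
    (hH : Coh.IsQCoh H) (hft : CohB1.IsFT H) :
    ∃ (S : Y.Modules) (i : S ⟶ (Scheme.Modules.pushforward q).obj H), Coh.IsCoh S ∧
      ∀ (Q : X.Modules), Coh.IsQCoh Q → ∀ h : H ⟶ Q, i ≫ (Scheme.Modules.pushforward q).map h = 0 → h = 0 := by
  classical
  haveI := hH
  haveI : Coh.IsQCoh ((Scheme.Modules.pushforward q).obj H) := QCohLib.isQCoh_pushforward q H
  have hgen : ∀ U : Y.affineOpens, ∃ T : Finset Γ(H, q ⁻¹ᵁ U.1),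
      Submodule.span Γ(X, q ⁻¹ᵁ U.1) (T : Set Γ(H, q ⁻¹ᵁ U.1)) = ⊤ := fun U =>
    let ⟨⟨T, hT⟩⟩ := QCohLib.finite_of_isFT hft (IsAffineOpen.preimage U.2 q)
    ⟨T, hT⟩
  choose T hT using hgen
  let P := (Scheme.Modules.pushforward q).obj H
  have key : ∀ F : Finset (Σ U : Y.affineOpens, Γ(P, U.1)), ∃ (S : Y.Modules) (i : S ⟶ P), Coh.IsCoh S ∧
      ∀ g ∈ F, ∃ z : Γ(S, g.1.1), i.app g.1.1 z = g.2 := by
    intro F
    induction F using Finset.induction_on with
    | empty =>
      exact ⟨⊥_ Y.Modules, 0, DevissLib.isCoh_of_isZero initialIsInitial.isZero, by simp⟩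
    | insert g F _ ih =>
      obtain ⟨S, i, hS, hi⟩ := ih
      obtain ⟨L, hLft, hL⟩ := QCohLib.LocSub.exists_ft_through (F := P) g.1.1 g.1.2 g.2
      have hLc : Coh.IsCoh L.toModules :=
        ⟨QCohLib.LocSub.isQCoh_toModules L hLft, QCohLib.LocSub.isFT_toModules L hLft⟩
      refine ⟨S ⊞ L.toModules, biprod.desc i L.ι, DevissLib.isCoh_biprod hS hLc, fun g' hg' => ?_⟩
      rcases Finset.mem_insert.1 hg' with rfl | hg'
      · refine ⟨(biprod.inr : L.toModules ⟶ S ⊞ L.toModules).app g'.1.1 (L.lift g'.2 hL), ?_⟩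
        have e : biprod.inr ≫ biprod.desc i L.ι = L.ι := by simp
        refine (congr(Scheme.Modules.Hom.app $e g'.1.1 (L.lift g'.2 hL))).trans ?_
        exact L.ι_lift g'.2 hL
      · obtain ⟨z, hz⟩ := hi g' hg'
        refine ⟨(biprod.inl : S ⟶ S ⊞ L.toModules).app g'.1.1 z, ?_⟩
        have e : biprod.inl ≫ biprod.desc i L.ι = i := by simp
        exact (congr(Scheme.Modules.Hom.app $e g'.1.1 z)).trans hz
  obtain ⟨t₀, ht⟩ := isCompact_univ.elim_finite_subcover (fun V : Y.affineOpens => (V.1 : Set Y))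
    (fun V => V.1.isOpen) (fun x _ => by
      obtain ⟨V, hV, hx, -⟩ := exists_isAffineOpen_mem_and_subset (X := Y) (x := x) (U := ⊤) trivial
      exact Set.mem_iUnion.2 ⟨⟨V, hV⟩, hx⟩)
  obtain ⟨S, i, hS, hi⟩ := key (t₀.biUnion fun V => (T V).image fun c => (⟨V, c⟩ : Σ U : Y.affineOpens, Γ(P, U.1)))
  refine ⟨S, i, hS, fun Q hQ h hh => ?_⟩
  haveI := hQ
  haveI : Coh.IsQCoh (kernel (cokernel.π (kernel.ι h))) := by
    haveI : Coh.IsQCoh (kernel h) := QCohLib.isQCoh_kernel h
    haveI : Coh.IsQCoh (cokernel (kernel.ι h)) := QCohLib.isQCoh_cokernel _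
    exact QCohLib.isQCoh_kernel _
  haveI : Coh.IsQCoh (kernel h) := QCohLib.isQCoh_kernel h
  haveI : Coh.IsQCoh (cokernel (kernel.ι h)) := QCohLib.isQCoh_cokernel _
  suffices hz : IsZero (cokernel (kernel.ι h)) by
    have hp : cokernel.π (kernel.ι h) ≫ cokernel.desc (kernel.ι h) h (kernel.condition h) = h :=
      cokernel.π_desc _ _ _
    rw [← hp, hz.eq_of_src (cokernel.desc (kernel.ι h) h (kernel.condition h)) 0, comp_zero]
  refine QRlimLib.isZero_of_subsingleton_affine _ (fun V : t₀ => q ⁻¹ᵁ V.1.1)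
    (fun V => IsAffineOpen.preimage V.1.2 q) ?_ fun V => ?_
  · refine eq_top_iff.2 fun x _ => ?_
    obtain ⟨W, hW, hxW⟩ := Set.mem_iUnion₂.1 (ht (Set.mem_univ (q x)))
    exact TopologicalSpace.Opens.mem_iSup.2 ⟨⟨W, hW⟩, hxW⟩
  refine subsingleton_of_forall_eq 0 fun z => ?_
  obtain ⟨c, rfl⟩ := QCohLib.app_surjective_of_affine
    (S := ShortComplex.mk (kernel.ι (cokernel.π (kernel.ι h))) (cokernel.π (kernel.ι h)) (kernel.condition _))
    ⟨ShortComplex.exact_of_f_is_kernel _ (kernelIsKernel _)⟩ (IsAffineOpen.preimage V.1.2 q) z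
  have hker : ∀ c, h.app (q ⁻¹ᵁ V.1.1) c = 0 →
      (cokernel.π (kernel.ι h)).app (q ⁻¹ᵁ V.1.1) c = 0 := fun c hc => by
    obtain ⟨y, hy⟩ := QCohLib.exists_of_app_eq_zero
      (S := ShortComplex.mk (kernel.ι h) h (kernel.condition h))
      (ShortComplex.exact_of_f_is_kernel _ (kernelIsKernel h)) inferInstance c hc
    rw [← hy]
    exact congr(Scheme.Modules.Hom.app $(cokernel.condition (kernel.ι h)) (q ⁻¹ᵁ V.1.1) y)
  refine hker c ?_
  have hc : c ∈ Submodule.span Γ(X, q ⁻¹ᵁ V.1.1) (T V.1 : Set Γ(H, q ⁻¹ᵁ V.1.1)) := by rw [hT]; trivial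
  induction hc using Submodule.span_induction with
  | mem c hc =>
    obtain ⟨w, hw⟩ := hi ⟨V.1, c⟩ (Finset.mem_biUnion.2 ⟨V.1, V.2, Finset.mem_image_of_mem _ hc⟩)
    have hw' : i.app V.1.1 w = c := hw
    rw [← hw']
    exact congr(Scheme.Modules.Hom.app $hh V.1.1 w)
  | zero => exact map_zero _
  | add a b _ _ ha hb => rw [map_add, ha, hb, add_zero]
  | smul r a _ ha => rw [QCohLib.app_smul, ha, smul_zero]

/-- Obstructions in lower degrees are effaceable. -/
theorem exists_kill' [IsNoetherian Y] (hd : AffineInter Y) {b a : ℤ} {S : Y.Modules} (hS : Coh.IsCoh S)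
    (N : DCoh.D Y) (hN : DCoh.IsQCohD N) [N.IsGE a] [N.IsLE (b - 1)]
    (o : (DerivedCategory.singleFunctor Y.Modules b).obj S ⟶ N) :
    ∃ (S' : Y.Modules) (p : S' ⟶ S), Coh.IsCoh S' ∧ Epi p ∧
      (DerivedCategory.singleFunctor Y.Modules b).map p ≫ o = 0 := by
  let e := (DerivedCategory.singleFunctors Y.Modules).shiftIso b 0 b (by omega)
  haveI : (N⟦b⟧).IsLE (-1) := (DerivedCategory.isLE_iff _ _).2 fun q hq =>
    PerfHomLib.isZero_HD_shift (DerivedCategory.isZero_of_isLE N (b - 1) _ (by omega))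
  haveI : (N⟦b⟧).IsGE (-((b - a).toNat : ℤ)) := (DerivedCategory.isGE_iff _ _).2 fun q hq =>
    PerfHomLib.isZero_HD_shift (DerivedCategory.isZero_of_isGE N a _ (by omega))
  obtain ⟨S', p, hS', hp, h⟩ := exists_kill hd (b - a).toNat S hS _ (KFlatLib.isQCohD_shift hN b)
    inferInstance inferInstance ((e.app S).inv ≫ o⟦b⟧')
  refine ⟨S', p, hS', hp, (shiftFunctor (DCoh.D Y) b).map_injective ?_⟩
  rw [Functor.map_zero, Functor.map_comp, ← cancel_epi (e.app S').inv, comp_zero, ← Category.assoc]
  have hn : (e.app S').inv ≫ ((DerivedCategory.singleFunctor Y.Modules b).map p)⟦b⟧' =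
      (DerivedCategory.singleFunctor Y.Modules 0).map p ≫ (e.app S).inv := (e.inv.naturality p).symm
  rw [hn, Category.assoc]
  exact h

/-- A coherent module on the Noetherian scheme hitting the whole top cohomology. -/
theorem exists_top_generator [IsNoetherian Y] (hd : AffineInter Y) (q : X ⟶ Y) [IsAffineHom q]
    [DCoh.HasRpush q] [DCoh.HasLpull q] (E : DCoh.D X) (hE : DCoh.IsQCohD E) (a b : ℤ)
    [E.IsGE a] [E.IsLE b] (hft : CohB1.IsFT (DCoh.HD E b)) :
    ∃ (S : Y.Modules) (ψ : (DCoh.Lpull q).obj ((DerivedCategory.singleFunctor Y.Modules b).obj S) ⟶ E),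
      Coh.IsCoh S ∧ Epi ((DerivedCategory.homologyFunctor X.Modules b).map ψ) := by
  obtain ⟨_, _⟩ := QRlimLib.exists_isTriangulated_rpush q
  let F := DerivedCategory.singleFunctor X.Modules b
  let Hb := DerivedCategory.homologyFunctor X.Modules b
  let A := (t.truncLE (b - 1)).obj E
  let G := (t.truncGT (b - 1)).obj E
  let π := (t.truncGTπ (b - 1)).app E
  have hT := t.triangleLEGT_distinguished (b - 1) E
  haveI : G.IsGE b := by
    have : G.IsGE (b - 1 + 1) := inferInstance
    simpa using this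
  haveI : G.IsLE b := (DerivedCategory.isLE_iff _ _).2 fun i hi => by
    haveI := Groth.Agent.DerLib.Devissage.isIso_homology_truncGTπ E (b - 1) i (by omega)
    exact (DerivedCategory.isZero_of_isLE E b i hi).of_iso (asIso ((DerivedCategory.homologyFunctor X.Modules i).map π)).symm
  obtain ⟨eG⟩ := Groth.Agent.DerLib.Devissage.nonempty_iso_single G b
  haveI := Groth.Agent.DerLib.Devissage.isIso_homology_truncGTπ E (b - 1) b (by omega)
  let H := DCoh.HD G b
  have hH : Coh.IsQCoh H := @QCohLib.isQCoh_of_iso _ _ _ (asIso (Hb.map π)) (hE b)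
  haveI := hH
  have hHft : CohB1.IsFT H := QCohLib.isFT_of_epi (Hb.map π) hft
  haveI := isIso_pushSingle q b H hH
  obtain ⟨S, i, hS, hgen⟩ := exists_coh_generating q H hH hHft
  haveI : A.IsLE (b - 1) := inferInstance
  haveI : A.IsGE a := (DerivedCategory.isGE_iff _ _).2 fun j hj => by
    by_cases hjb : j ≤ b - 1
    · haveI := Groth.Agent.DerLib.Devissage.isIso_homology_truncLEι E (b - 1) j hjb
      exact (DerivedCategory.isZero_of_isGE E a j hj).of_iso
        (asIso ((DerivedCategory.homologyFunctor X.Modules j).map ((t.truncLEι (b - 1)).app E)))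
    · exact DerivedCategory.isZero_of_isLE A (b - 1) j (by omega)
  have hAq : DCoh.IsQCohD A := QRlimLib.isQCohD_truncLE hE (b - 1)
  haveI : ((DCoh.Rpush q).obj A).IsLE (b - 1) :=
    isLE_rpush_affine q (b - 1) (b - a).toNat A hAq
      (t.isGE_of_ge A (b - 1 + 1 - ((b - a).toNat : ℤ)) a (by omega)) inferInstance
  haveI := QRlimLib.rpush_isGE q A a
  haveI : (((DCoh.Rpush q).obj A)⟦(1 : ℤ)⟧).IsLE (b - 1) := (DerivedCategory.isLE_iff _ _).2 fun j hj =>
    PerfHomLib.isZero_HD_shift (DerivedCategory.isZero_of_isLE _ (b - 1) _ (by omega))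
  haveI : (((DCoh.Rpush q).obj A)⟦(1 : ℤ)⟧).IsGE (a - 1) := (DerivedCategory.isGE_iff _ _).2 fun j hj =>
    PerfHomLib.isZero_HD_shift (DerivedCategory.isZero_of_isGE _ a _ (by omega))
  have hT' := (DCoh.Rpush q).map_distinguished _ hT
  let γ : (DerivedCategory.singleFunctor Y.Modules b).obj S ⟶ (DCoh.Rpush q).obj G :=
    (DerivedCategory.singleFunctor Y.Modules b).map i ≫ (pushSingle q b).app H ≫ (DCoh.Rpush q).map eG.inv
  obtain ⟨S', p, hS', hp, hpo⟩ := exists_kill' (a := a - 1) hd hS _
    (KFlatLib.isQCohD_shift (QRlimLib.isQCohD_rpush q hAq) 1)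
    (γ ≫ ((DCoh.Rpush q).mapTriangle.obj (t.triangleLEGT (b - 1) |>.obj E)).mor₃)
  obtain ⟨φ, hφ⟩ := Triangle.coyoneda_exact₃ _ hT'
    ((DerivedCategory.singleFunctor Y.Modules b).map p ≫ γ) (by rw [Category.assoc]; exact hpo)
  let Ad := KFlatLib.lpullRpushAdj q
  let ψ := (Ad.homEquiv _ _).symm φ
  refine ⟨S', ψ, hS', ?_⟩
  let L := (DCoh.Lpull q).obj ((DerivedCategory.singleFunctor Y.Modules b).obj S')
  haveI : L.IsLE b := isLE_lpull q _ b
  let χ₀ : E ⟶ F.obj H := π ≫ eG.hom
  let c := (DerivedCategory.singleFunctorCompHomologyFunctorIso X.Modules b).app H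
  obtain ⟨μ, hμdef⟩ : ∃ μ : Hb.obj L ⟶ H, μ = Hb.map (ψ ≫ χ₀) ≫ c.hom := ⟨_, rfl⟩
  haveI : Coh.IsQCoh (Hb.obj L) := by
    exact KFlatLib.isQCohD_lpull q _
      (KFlatLib.isQCohD_iso ((DerivedCategory.singleFunctors Y.Modules).shiftIso (-b) b 0 (by omega) |>.app S')
        (KFlatLib.isQCohD_shift (PerfBaseLib.isQCohD_inD S' hS'.1) (-b))) b
  suffices Epi μ by
    have hμ : μ = Hb.map ψ ≫ (Hb.map χ₀ ≫ c.hom) := by rw [hμdef, Functor.map_comp, Category.assoc]
    rw [hμ] at this
    have h' : Epi (Hb.map ψ ≫ Hb.map χ₀ ≫ c.hom) := this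
    haveI hiso : IsIso (Hb.map χ₀ ≫ c.hom) := by
      haveI : IsIso (Hb.map χ₀) := by
        rw [Functor.map_comp]
        infer_instance
      infer_instance
    exact (epi_comp_iff_of_isIso (Hb.map ψ) (Hb.map χ₀ ≫ c.hom)).1 h'
  rw [Preadditive.epi_iff_isZero_cokernel]
  haveI : Coh.IsQCoh (cokernel μ) := QCohLib.isQCoh_cokernel μ
  let h := cokernel.π μ
  suffices h0 : h = 0 by
    rw [IsZero.iff_id_eq_zero, ← cancel_epi (cokernel.π μ), Category.comp_id, comp_zero]
    exact h0
  refine hgen _ inferInstance h ?_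
  rw [← cancel_epi p, comp_zero]
  refine (Category.assoc _ _ _).symm.trans ?_
  refine (DerivedCategory.singleFunctor Y.Modules b).map_injective ?_
  haveI := isIso_pushSingle q b (cokernel μ) inferInstance
  rw [Functor.map_zero, ← cancel_mono ((pushSingle q b).app (cokernel μ)), zero_comp, Functor.map_comp,
    Category.assoc]
  erw [(pushSingle q b).naturality h]
  have hψ0 : ψ ≫ χ₀ ≫ F.map h = 0 := by
    refine eq_zero_of_homology L b _ _ ?_
    have hn : Hb.map (F.map h) = c.hom ≫ h ≫
        (DerivedCategory.singleFunctorCompHomologyFunctorIso X.Modules b).inv.app (cokernel μ) := by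
      have := (DerivedCategory.singleFunctorCompHomologyFunctorIso X.Modules b).hom.naturality h
      refine (cancel_mono ((DerivedCategory.singleFunctorCompHomologyFunctorIso X.Modules b).hom.app
        (cokernel μ))).1 ?_
      refine Eq.trans this ?_
      rw [Category.assoc, Category.assoc]
      erw [Iso.inv_hom_id_app, Category.comp_id]
      rfl
    rw [← Category.assoc, Functor.map_comp]
    erw [hn]
    rw [← Category.assoc]
    refine (congrArg (· ≫ h ≫ _) hμdef.symm).trans ?_
    rw [← Category.assoc, cokernel.condition, zero_comp]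
  have hφ0 : φ ≫ (DCoh.Rpush q).map (χ₀ ≫ F.map h) = 0 := by
    apply (Ad.homEquiv _ _).symm.injective
    rw [Adjunction.homEquiv_naturality_right_symm]
    change ψ ≫ χ₀ ≫ F.map h = _
    rw [hψ0, Adjunction.homEquiv_counit]
    haveI : (DCoh.Lpull q).IsLeftAdjoint := ⟨_, ⟨Ad⟩⟩
    rw [Functor.map_zero, zero_comp]
  rw [Functor.map_comp, Functor.map_comp, Category.assoc] at hφ0
  refine Eq.trans ?_ hφ0
  have hφ' : φ ≫ (DCoh.Rpush q).map π = (DerivedCategory.singleFunctor Y.Modules b).map p ≫ γ := hφ.symm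
  refine Eq.trans ?_ ((congrArg (· ≫ (DCoh.Rpush q).map eG.hom ≫ (DCoh.Rpush q).map (F.map h)) hφ').symm.trans
    (Category.assoc _ _ _))
  simp only [γ, Functor.map_comp, Category.assoc]
  rw [← (DCoh.Rpush q).map_comp_assoc eG.inv eG.hom, eG.inv_hom_id, CategoryTheory.Functor.map_id,
    Category.id_comp]
  rfl

end KiehlLib
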