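import Groth.Agent.KiehlLib.SuppPC
import Groth.Agent.PerfCompLib.Bounded

/-!
# Pseudo-coherence of direct images twisted by bounded above complexes
-/

set_option autoImplicit false
set_option backward.isDefEq.respectTransparency false
set_option backward.isDefEq.respectTransparency.types false
set_option maxHeartbeats 1000000
set_option synthInstance.maxHeartbeats 200000
set_option linter.style.haveILetI false

universe u

open CategoryTheory CategoryTheory.Limits CategoryTheory.Pretriangulated AlgebraicGeometry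
open Groth.Agent
open DerivedCategory.TStructure (t)

attribute [local instance] HasDerivedCategory.standard

namespace KiehlLib

variable {X S : Scheme.{u}}

/-- Objects whose twist by `P` has pseudo-coherent direct image. -/
def Good (f : X ⟶ S) [DCoh.HasRpush f] (P : CochainComplex X.Modules ℤ) [DCoh.HasLTensorCx P]
    (K : DCoh.D X) : Prop :=
  ∀ m : ℤ, DCoh.IsPseudoCoherentD m ((DCoh.Rpush f).obj ((DCoh.LTensorCx P).obj K))

section Good

variable {f : X ⟶ S} [DCoh.HasRpush f] {P : CochainComplex X.Modules ℤ} [DCoh.HasLTensorCx P]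

theorem Good.iso {K L : DCoh.D X} (e : K ≅ L) (h : Good f P K) : Good f P L :=
  fun m => PerfLib.isPC_of_iso ((DCoh.Rpush f).mapIso ((DCoh.LTensorCx P).mapIso e)) (h m)

theorem Good.of_isZero {K : DCoh.D X} (h : IsZero K) : Good f P K :=
  fun m => PerfLib.isPC_of_isZero_above fun i _ => Functor.map_isZero _
    (Groth.Agent.DCohRestrLib.isZero_Rpush f ((KFlatLib.tensorTriFun P).zero h))

theorem Good.triangle (T : Triangle (DCoh.D X)) (hT : T ∈ distinguishedTriangles) :
    (Good f P T.obj₁ → Good f P T.obj₂ → Good f P T.obj₃) ∧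
    (Good f P T.obj₁ → Good f P T.obj₃ → Good f P T.obj₂) ∧
    (Good f P T.obj₂ → Good f P T.obj₃ → Good f P T.obj₁) := by
  obtain ⟨_, _⟩ := QRlimLib.exists_isTriangulated_rpush f
  obtain ⟨T', hT', ⟨e₁⟩, ⟨e₂⟩, ⟨e₃⟩⟩ := (KFlatLib.tensorTriFun P).tri T hT
  let R := DCoh.Rpush f
  have hR := R.map_distinguished _ hT'
  refine ⟨fun h₁ h₂ m => ?_, fun h₁ h₃ m => ?_, fun h₂ h₃ m => ?_⟩
  · exact PerfLib.isPC_of_iso (R.mapIso e₃) ((Groth.Agent.S0889.result m _ hR).1
      (PerfLib.isPC_of_iso (R.mapIso e₁).symm (h₁ (m + 1)))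
      (PerfLib.isPC_of_iso (R.mapIso e₂).symm (h₂ m)))
  · exact PerfLib.isPC_of_iso (R.mapIso e₂) ((Groth.Agent.S0889.result m _ hR).2.1
      (PerfLib.isPC_of_iso (R.mapIso e₁).symm (h₁ m))
      (PerfLib.isPC_of_iso (R.mapIso e₃).symm (h₃ m)))
  · have := (Groth.Agent.S0889.result (m - 1) _ hR).2.2
      (PerfLib.isPC_of_iso (R.mapIso e₂).symm (h₂ _))
      (PerfLib.isPC_of_iso (R.mapIso e₃).symm (h₃ _))
    exact PerfLib.isPC_of_iso (R.mapIso e₁) (by simpa using this)

theorem Good.shift_one {K : DCoh.D X} : Good f P (K⟦(1 : ℤ)⟧) ↔ Good f P K := by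
  have hT := rot_of_distTriang _ (contractible_distinguished K)
  exact ⟨fun h => (Good.triangle _ hT).2.2 (Good.of_isZero (isZero_zero _)) h,
    fun h => (Good.triangle _ hT).1 h (Good.of_isZero (isZero_zero _))⟩

theorem Good.single {M : X.Modules} (h : Good f P (DCoh.inD X M)) :
    ∀ n : ℤ, Good f P ((DerivedCategory.singleFunctor X.Modules n).obj M) := by
  intro n
  induction n using Int.induction_on with
  | zero => exact h
  | succ k ih =>
    exact Good.shift_one.1 (Good.iso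
      (((DerivedCategory.singleFunctors X.Modules).shiftIso (1 : ℤ) (k : ℤ) ((k : ℤ) + 1) (by omega)).app M).symm ih)
  | pred k ih =>
    exact Good.iso (((DerivedCategory.singleFunctors X.Modules).shiftIso (1 : ℤ) (-(k : ℤ) - 1) (-(k : ℤ))
      (by omega)).app M) (Good.shift_one.2 ih)

end Good

theorem isZero_tCx_X {A B : CochainComplex X.Modules ℤ} {a b : ℤ}
    (hA : ∀ i, a < i → IsZero (A.X i)) (hB : ∀ i, b < i → IsZero (B.X i)) (i : ℤ) (hi : a + b < i) :
    IsZero ((KFlatLib.tCx A B).X i) := by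
  refine (IsZero.iff_id_eq_zero _).mpr (HomologicalComplex.mapBifunctor.hom_ext fun p q hpq => ?_)
  change p + q = i at hpq
  by_cases hp : a < p
  · exact (((DCoh.tensorBi (X := X)).flip.obj _).map_isZero (hA p hp)).eq_of_src _ _
  · exact (((DCoh.tensorBi (X := X)).obj _).map_isZero (hB q (by omega))).eq_of_src _ _

/-- A uniform bound for twists by complexes in low degrees on a quasi-compact scheme. -/
theorem exists_isLE_tCx [CompactSpace ↥X] (P : CochainComplex X.Modules ℤ) (hP : DCoh.IsKFlat P) {k : ℤ}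
    (hpc : DCoh.IsPseudoCoherentD k (DCoh.toD X P)) :
    ∃ b : ℤ, ∀ (C : CochainComplex X.Modules ℤ) (c : ℤ), (∀ i, c < i → IsZero (C.X i)) →
      (DCoh.toD X (KFlatLib.tCx P C)).IsLE (b + c) := by
  obtain ⟨b, hb⟩ := exists_isLE_of_isPC hpc
  haveI := hb
  obtain ⟨P', hPb, hP', ⟨e⟩⟩ := exists_flat_rep (DCoh.toD X P) b
  refine ⟨b, fun C c hC => ?_⟩
  haveI := KFlatLib.hasLTensorCx C
  haveI := TensorAssocLib.isIso_cnt_of_kFlat C P hP
  haveI := TensorAssocLib.isIso_cnt_of_kFlat C P' hP'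
  let eT : DCoh.toD X (KFlatLib.tCx P' C) ≅ DCoh.toD X (KFlatLib.tCx P C) :=
    (asIso ((TensorAssocLib.cnt C).app P')).symm ≪≫ (DCoh.LTensorCx C).mapIso e ≪≫
      asIso ((TensorAssocLib.cnt C).app P)
  refine (DerivedCategory.isLE_iff _ _).2 fun i hi => (KFlatLib.isZero_HD_iff eT i).2 ?_
  exact (HomologicalComplex.exactAt_iff_isZero_homology _ _).1
    (ShortComplex.exact_of_isZero_X₂ _ (isZero_tCx_X hPb hC i hi))

/-- **Pseudo-coherence of direct images twisted by bounded above complexes.** -/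
theorem isPC_rpush_lTensorCx (f : X ⟶ S) [LocallyOfFinitePresentation f] [QuasiCompact f]
    [QuasiSeparated f] [DCoh.HasRpush f] (E : DCoh.D X) (hE : ∀ m : ℤ, DCoh.IsPseudoCoherentD m E)
    (G : CochainComplex X.Modules ℤ) (hGb : ∃ b : ℤ, ∀ i : ℤ, b < i → IsZero (G.X i))
    (hGfp : ∀ i : ℤ, CohB1.IsFP (G.X i)) (hGflat : ∀ i : ℤ, FlatMod.IsFlatOver f (G.X i))
    (hGsupp : ∀ i : ℤ, ClSub.IsProperOver f (CohB1.support (G.X i)))
    [DCoh.HasLTensorCx G] (m : ℤ) :
    DCoh.IsPseudoCoherentD m ((DCoh.Rpush f).obj ((DCoh.LTensorCx G).obj E)) := by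
  obtain ⟨b, hGb⟩ := hGb
  obtain ⟨P, hP, ⟨eP⟩⟩ := KFlatLib.exists_good_rep E
  have hPpc := fun k => PerfLib.isPC_of_iso eP.symm (hE k)
  have hPq : DCoh.IsQCohD (DCoh.toD X P) := isQCohD_of_isPC hPpc
  haveI := KFlatLib.hasLTensorCx P
  -- exchange the roles of the factors
  let eS : ∀ C : CochainComplex X.Modules ℤ,
      (DCoh.LTensorCx P).obj (DerivedCategory.Q.obj C) ≅ DCoh.toD X (KFlatLib.tCx P C) := fun C =>
    haveI := TensorAssocLib.isIso_cnt P hP.1 C
    asIso ((TensorAssocLib.cnt P).app C) ≪≫ DerivedCategory.Q.mapIso (KFlatLib.tCxFlip P C)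
  haveI := TensorAssocLib.isIso_cnt_of_kFlat G P hP.1
  refine PerfLib.isPC_of_iso ((DCoh.Rpush f).mapIso (eS G ≪≫ (asIso ((TensorAssocLib.cnt G).app P)).symm ≪≫
    (DCoh.LTensorCx G).mapIso eP)) ?_
  have hq : ∀ i, Coh.IsQCoh (G.X i) := fun i =>
    haveI : SheafOfModules.IsFinitePresentation (R := X.ringCatSheaf) (G.X i) := hGfp i
    inferInstanceAs (SheafOfModules.IsQuasicoherent (R := X.ringCatSheaf) (G.X i))
  have hgood : ∀ n i : ℤ, Good f P ((DerivedCategory.singleFunctor X.Modules n).obj (G.X i)) := fun n i =>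
    Good.single (fun k => by
      haveI := KFlatLib.hasLTensorMod (G.X i)
      haveI := hq i
      obtain ⟨e⟩ := nonempty_lTensorCx_inD P hP.1 (G.X i)
      exact PerfLib.isPC_of_iso ((DCoh.Rpush f).mapIso e.symm)
        (isPC_rpush_lTensor_supp f _ hPpc (G.X i) (hGfp i) (hGflat i) (hGsupp i) k)) n
  obtain ⟨_, _⟩ := QRlimLib.exists_isTriangulated_rpush f
  refine isPC_of_local fun s => ?_
  obtain ⟨W, hW, hs⟩ := QCohLib.exists_affine_nhd s
  refine ⟨W, hs, ?_⟩
  haveI : IsAffine (W : Scheme.{u}) := hW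
  let fW := f ∣_ W
  haveI : QuasiCompact fW := MorphismProperty.of_isPullback
    (isPullback_morphismRestrict f W).flip inferInstance
  haveI : QuasiSeparated fW := MorphismProperty.of_isPullback
    (isPullback_morphismRestrict f W).flip inferInstance
  haveI := Groth.Agent.DCohRestrLib.hasRpush fW
  haveI : CompactSpace ↥(f ⁻¹ᵁ W : Scheme.{u}) := QuasiCompact.compactSpace_of_compactSpace fW
  obtain ⟨N, hN⟩ := QRlimLib.exists_uniform_bound fW
  let U := f ⁻¹ᵁ W
  let PU := (KFlatLib.pullCx U.ι).obj P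
  let eU : ∀ C : CochainComplex X.Modules ℤ,
      (DCoh.restrictD U.ι).obj (DCoh.toD X C) ≅ DCoh.toD _ ((KFlatLib.pullCx U.ι).obj C) := fun C =>
    ((Scheme.Modules.restrictFunctor U.ι).mapDerivedCategoryFactors).app C ≪≫
      DerivedCategory.Q.mapIso ((KFlatLib.restrictCxIso U).app C)
  obtain ⟨bU, hbU⟩ := exists_isLE_tCx PU (KFlatLib.isKFlat_pull _ hP.1) (k := 0)
    (PerfLib.isPC_of_iso (eU P) (PerfLib.isPC_res (hPpc 0) U.ι))
  let c : ℤ := m - N - bU
  obtain ⟨G₁, ι, hG₁, hι⟩ := QRlimLib.exists_brutal G c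
  haveI := hG₁
  haveI : Mono ι := HomologicalComplex.mono_of_mono_f _ fun i => by
    by_cases hi : c ≤ i
    · have := hι i hi
      infer_instance
    · exact ⟨fun _ _ _ => (CochainComplex.isZero_of_isStrictlyGE G₁ c i (by omega)).eq_of_tgt _ _⟩
  let Sq := ShortComplex.mk ι (cokernel.π ι) (cokernel.condition ι)
  have hS : Sq.ShortExact :=
    { exact := ShortComplex.exact_cokernel _
      mono_f := inferInstanceAs (Mono ι)
      epi_g := inferInstanceAs (Epi (cokernel.π ι)) }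
  have h₁ : Good f P (DerivedCategory.Q.obj G₁) := by
    refine PerfCompLib.prop_Q_of_bounded (Good f P) Good.iso
      (fun T hT => (Good.triangle T hT).2.1) Good.of_isZero (b - c).toNat G₁ c b (by omega)
      (fun i hi => ?_) fun i hi _ => ?_
    · by_cases h : c ≤ i
      · have := hι i h
        exact (hGb i (by omega)).of_iso (asIso (ι.f i))
      · exact CochainComplex.isZero_of_isStrictlyGE G₁ c i (by omega)
    · have := hι i hi
      exact Good.iso ((DerivedCategory.singleFunctor X.Modules i).mapIso (asIso (ι.f i)).symm ≪≫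
        (DerivedCategory.singleFunctorIsoCompQ X.Modules i).app _) (hgood i i)
  let C := cokernel ι
  let ev := fun i => HomologicalComplex.eval X.Modules (ComplexShape.up ℤ) i
  have hCz : ∀ i, c - 1 < i → IsZero (C.X i) := fun i hi => by
    haveI := hι i (by omega)
    exact (isZero_cokernel_of_epi (ι.f i)).of_iso (PreservesCokernel.iso (ev i) ι)
  have hCq : DCoh.IsQCohD (DCoh.toD X C) := fun j => by
    refine @QCohLib.isQCoh_of_iso _ _ _ (KFlatLib.hdToD C j).symm
      (KFlatLib.isQCoh_homology_of_terms C (fun i => ?_) j)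
    haveI : Coh.IsQCoh (G₁.X i) := by
      by_cases h : c ≤ i
      · haveI := hι i h
        exact @QCohLib.isQCoh_of_iso _ _ _ (asIso (ι.f i)).symm (hq i)
      · exact KFlatLib.isQCoh_zero (CochainComplex.isZero_of_isStrictlyGE G₁ c i (by omega))
    haveI := hq i
    exact @QCohLib.isQCoh_of_iso _ _ _ (PreservesCokernel.iso (ev i) ι).symm (QCohLib.isQCoh_cokernel (ι.f i))
  obtain ⟨T', hT', ⟨e₁⟩, ⟨e₂⟩, ⟨e₃⟩⟩ :=
    (KFlatLib.tensorTriFun P).tri _ (DerivedCategory.triangleOfSES_distinguished hS)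
  let F := DCoh.restrictD W.ι
  have hT'' := F.map_distinguished _ ((DCoh.Rpush f).map_distinguished _ hT')
  refine PerfLib.isPC_of_iso (F.mapIso ((DCoh.Rpush f).mapIso e₂))
    ((Groth.Agent.S0889.result m _ hT'').2.1 ?_ ?_)
  · exact PerfLib.isPC_res (PerfLib.isPC_of_iso ((DCoh.Rpush f).mapIso e₁).symm (h₁ m)) W.ι
  · obtain ⟨eR⟩ := Groth.Agent.DCohRestrLib.nonempty_restrictD_Rpush f W
    let Z := (DCoh.restrictD U.ι).obj (DCoh.toD X (KFlatLib.tCx P C))
    refine PerfLib.isPC_of_iso ((eR.app _).symm ≪≫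
      F.mapIso ((DCoh.Rpush f).mapIso ((eS C).symm ≪≫ e₃.symm)))
      (PerfLib.isPC_of_isZero_above fun i hi => hN Z ?_ (bU + (c - 1)) ?_ i (by omega))
    · haveI := KFlatLib.hasLTensorCx C
      haveI := TensorAssocLib.isIso_cnt_of_kFlat C P hP.1
      exact Groth.Agent.PerfDualLib.isQCohD_restrictD (KFlatLib.isQCohD_iso
        (asIso ((TensorAssocLib.cnt C).app P)) (KFlatLib.isQCohD_lTensorCx C hCq _ hPq)) U
    · haveI : (DCoh.toD _ (KFlatLib.tCx PU ((KFlatLib.pullCx U.ι).obj C))).IsLE (bU + (c - 1)) :=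
        hbU _ _ fun i hi => (Scheme.Modules.pullback U.ι).map_isZero (hCz i hi)
      exact t.isLE_of_iso ((eU _ ≪≫ DerivedCategory.Q.mapIso
        (KFlatLib.pullTensorCxIso U.ι P C).symm).symm) (bU + (c - 1))

end KiehlLib
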