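import Groth.Agent.KiehlLib.HomAcyclic
import Groth.Agent.QCohLib.Extend
import Groth.Agent.DevissLib.Basic
import Groth.Agent.QRlimLib.Trunc
import Groth.Agent.QRlimLib.Affine
import Mathlib.Algebra.Homology.DerivedCategory.SingleTriangle
import Mathlib.Algebra.Homology.DerivedCategory.FullyFaithful

/-!
# Effaceability of maps out of coherent modules and lifting of classes in top cohomology
-/

set_option autoImplicit false
set_option backward.isDefEq.respectTransparency false
set_option backward.isDefEq.respectTransparency.types false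
set_option maxHeartbeats 1000000
set_option linter.style.haveILetI false

universe u

open CategoryTheory CategoryTheory.Limits CategoryTheory.Pretriangulated AlgebraicGeometry Opposite
open Groth.Agent
open DerivedCategory.TStructure (t)

attribute [local instance] HasDerivedCategory.standard

namespace KiehlLib

variable {X : Scheme.{u}}

/-- An epimorphism from a quasi-coherent module onto a coherent one is onto on a coherent submodule. -/
theorem exists_coh_epi [IsNoetherian X] {P C : X.Modules} [Coh.IsQCoh P] (π : P ⟶ C) [Epi π]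
    (hC : Coh.IsCoh C) : ∃ (S : X.Modules) (i : S ⟶ P), Coh.IsCoh S ∧ Epi (i ≫ π) := by
  classical
  haveI := hC.1
  haveI : Coh.IsQCoh (kernel π) := QCohLib.isQCoh_kernel π
  have hsurj : ∀ (V : X.affineOpens), Function.Surjective (π.app V.1) := fun V =>
    QCohLib.app_surjective_of_affine
      (S := ShortComplex.mk (kernel.ι π) π (kernel.condition π))
      ⟨ShortComplex.exact_of_f_is_kernel _ (kernelIsKernel π)⟩ V.2
  have hgen : ∀ V : X.affineOpens, ∃ T : Finset Γ(C, V.1),
      Submodule.span Γ(X, V.1) (T : Set Γ(C, V.1)) = ⊤ := fun V =>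
    let ⟨⟨T, hT⟩⟩ := QCohLib.finite_of_isFT hC.2 V.2
    ⟨T, hT⟩
  choose T hT using hgen
  have key : ∀ F : Finset (Σ V : X.affineOpens, Γ(C, V.1)), ∃ (S : X.Modules) (i : S ⟶ P), Coh.IsCoh S ∧
      ∀ g ∈ F, ∃ z : Γ(S, g.1.1), (i ≫ π).app g.1.1 z = g.2 := by
    intro F
    induction F using Finset.induction_on with
    | empty =>
      exact ⟨⊥_ X.Modules, 0, DevissLib.isCoh_of_isZero initialIsInitial.isZero, by simp⟩
    | insert g F _ ih =>
      obtain ⟨S, i, hS, hi⟩ := ih
      obtain ⟨y, hy⟩ := hsurj g.1 g.2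
      obtain ⟨L, hft, hL⟩ := QCohLib.LocSub.exists_ft_through (F := P) g.1.1 g.1.2 y
      have hLc : Coh.IsCoh L.toModules :=
        ⟨QCohLib.LocSub.isQCoh_toModules L hft, QCohLib.LocSub.isFT_toModules L hft⟩
      refine ⟨S ⊞ L.toModules, biprod.desc i L.ι, DevissLib.isCoh_biprod hS hLc, fun g' hg' => ?_⟩
      rcases Finset.mem_insert.1 hg' with rfl | hg'
      · refine ⟨(biprod.inr : L.toModules ⟶ S ⊞ L.toModules).app g'.1.1 (L.lift y hL), ?_⟩
        have e : biprod.inr ≫ biprod.desc i L.ι ≫ π = L.ι ≫ π := by simp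
        refine (congr(Scheme.Modules.Hom.app $e g'.1.1 (L.lift y hL))).trans ?_
        refine Eq.trans ?_ hy
        exact congrArg (π.app g'.1.1) (L.ι_lift y hL)
      · obtain ⟨z, hz⟩ := hi g' hg'
        refine ⟨(biprod.inl : S ⟶ S ⊞ L.toModules).app g'.1.1 z, ?_⟩
        have e : biprod.inl ≫ biprod.desc i L.ι ≫ π = i ≫ π := by simp
        exact (congr(Scheme.Modules.Hom.app $e g'.1.1 z)).trans hz
  obtain ⟨t, ht⟩ := isCompact_univ.elim_finite_subcover (fun V : X.affineOpens => (V.1 : Set X))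
    (fun V => V.1.isOpen) (fun x _ => by
      obtain ⟨V, hV, hx, -⟩ := exists_isAffineOpen_mem_and_subset (X := X) (x := x) (U := ⊤) trivial
      exact Set.mem_iUnion.2 ⟨⟨V, hV⟩, hx⟩)
  obtain ⟨S, i, hS, hi⟩ := key (t.biUnion fun V => (T V).image fun c => ⟨V, c⟩)
  refine ⟨S, i, hS, ?_⟩
  haveI := hS.1
  haveI : Coh.IsQCoh (cokernel (i ≫ π)) := QCohLib.isQCoh_cokernel _
  rw [Preadditive.epi_iff_isZero_cokernel]
  refine QRlimLib.isZero_of_subsingleton_affine _ (fun V : t => V.1.1) (fun V => V.1.2) ?_ fun V => ?_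
  · refine eq_top_iff.2 fun x _ => ?_
    obtain ⟨W, hW, hxW⟩ := Set.mem_iUnion₂.1 (ht (Set.mem_univ x))
    exact TopologicalSpace.Opens.mem_iSup.2 ⟨⟨W, hW⟩, hxW⟩
  refine subsingleton_of_forall_eq 0 fun z => ?_
  haveI : Coh.IsQCoh (kernel (cokernel.π (i ≫ π))) := QCohLib.isQCoh_kernel _
  obtain ⟨c, rfl⟩ := QCohLib.app_surjective_of_affine
    (S := ShortComplex.mk (kernel.ι (cokernel.π (i ≫ π))) (cokernel.π (i ≫ π)) (kernel.condition _))
    ⟨ShortComplex.exact_of_f_is_kernel _ (kernelIsKernel _)⟩ V.1.2 z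
  have hc : c ∈ Submodule.span Γ(X, V.1.1) (T V.1 : Set Γ(C, V.1.1)) := by rw [hT]; trivial
  change (cokernel.π (i ≫ π)).app V.1.1 c = 0
  induction hc using Submodule.span_induction with
  | mem c hc =>
    obtain ⟨w, hw⟩ := hi ⟨V.1, c⟩ (Finset.mem_biUnion.2 ⟨V.1, V.2, Finset.mem_image_of_mem _ hc⟩)
    have hw' : (i ≫ π).app V.1.1 w = c := hw
    rw [← hw']
    exact congr(Scheme.Modules.Hom.app $(cokernel.condition (i ≫ π)) V.1.1 w)
  | zero => exact map_zero _
  | add a b _ _ ha hb => rw [map_add, ha, hb, add_zero]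
  | smul r a _ ha => rw [QCohLib.app_smul, ha, smul_zero]

/-- Separatedness in the form used here. -/
abbrev AffineInter (X : Scheme.{u}) : Prop :=
  ∀ V W : X.Opens, IsAffineOpen V → IsAffineOpen W → IsAffineOpen (V ⊓ W)

variable [IsNoetherian X] (hd : AffineInter X)
include hd

/-- Maps of positive degree into a quasi-coherent module are effaceable. -/
theorem exists_kill_single (k : ℕ) : ∀ (S : X.Modules), Coh.IsCoh S → ∀ (M : X.Modules), Coh.IsQCoh M →
    ∀ φ : DCoh.inD X S ⟶ (DCoh.inD X M)⟦((k : ℤ) + 1)⟧,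
      ∃ (S' : X.Modules) (p : S' ⟶ S), Coh.IsCoh S' ∧ Epi p ∧
        (DerivedCategory.singleFunctor X.Modules 0).map p ≫ φ = 0 := by
  induction k with
  | zero =>
    intro S hS M hM φ
    haveI := hM
    haveI := hS.1
    obtain ⟨I, ι, hι, hI, hA⟩ := exists_homAcyclic_envelope hd M
    haveI : Coh.IsQCoh (cokernel ι) := QCohLib.isQCoh_cokernel ι
    let C := ShortComplex.mk ι (cokernel.π ι) (cokernel.condition ι)
    have hC : C.ShortExact := ⟨ShortComplex.exact_of_g_is_cokernel _ (cokernelIsCokernel ι)⟩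
    let φ' : DCoh.inD X S ⟶ (DCoh.inD X M)⟦(1 : ℤ)⟧ :=
      φ ≫ eqToHom (by simp)
    have hI0 : φ' ≫ ((DerivedCategory.singleFunctor X.Modules 0).map ι)⟦(1 : ℤ)⟧' = 0 := by
      rw [← cancel_mono ((((DerivedCategory.singleFunctors X.Modules).shiftIso (1 : ℤ) (-1) 0 (by omega))).app I).hom,
        zero_comp]
      exact hA S hS.1 (-1) (by omega) _
    obtain ⟨ψ, hψ⟩ := Triangle.coyoneda_exact₁ _ hC.singleTriangle_distinguished φ' hI0
    obtain ⟨ψ₀, rfl⟩ := (DerivedCategory.singleFunctor X.Modules 0).map_surjective ψ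
    haveI := hI
    haveI : Coh.IsQCoh (I ⊞ S) := QCohLib.isQCoh_biprod I S
    haveI : Coh.IsQCoh (pullback (cokernel.π ι) ψ₀) :=
      @QCohLib.isQCoh_of_iso _ _ _ ((Abelian.PullbackToBiproductIsKernel.isLimitPullbackToBiproduct
        (cokernel.π ι) ψ₀).conePointUniqueUpToIso (kernelIsKernel _)).symm (QCohLib.isQCoh_kernel _)
    haveI : Epi (pullback.snd (cokernel.π ι) ψ₀) := inferInstance
    obtain ⟨S', i, hS', hp⟩ := exists_coh_epi (pullback.snd (cokernel.π ι) ψ₀) hS
    refine ⟨S', i ≫ pullback.snd (cokernel.π ι) ψ₀, hS', hp, ?_⟩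
    have h0 : (DerivedCategory.singleFunctor X.Modules 0).map (i ≫ pullback.snd (cokernel.π ι) ψ₀) ≫ φ' = 0 := by
      rw [hψ, ← Category.assoc, ← Functor.map_comp, Category.assoc, ← pullback.condition,
        ← Category.assoc, Functor.map_comp, Category.assoc]
      erw [comp_distTriang_mor_zero₂₃ _ hC.singleTriangle_distinguished, comp_zero]
    simpa [φ'] using h0
  | succ k ih =>
    intro S hS M hM φ
    haveI := hM
    haveI := hS.1
    obtain ⟨I, ι, hι, hI, hA⟩ := exists_homAcyclic_envelope hd M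
    haveI : Coh.IsQCoh (cokernel ι) := QCohLib.isQCoh_cokernel ι
    let C := ShortComplex.mk ι (cokernel.π ι) (cokernel.condition ι)
    have hC : C.ShortExact := ⟨ShortComplex.exact_of_g_is_cokernel _ (cokernelIsCokernel ι)⟩
    let n : ℤ := (k : ℤ) + 1
    let e : ∀ A : DCoh.D X, A⟦((k + 1 : ℕ) : ℤ) + 1⟧ ≅ (A⟦n⟧)⟦(1 : ℤ)⟧ := fun A =>
      (shiftFunctorAdd' (DCoh.D X) n 1 (((k + 1 : ℕ) : ℤ) + 1) (by omega)).app A
    let φ' := φ ≫ (e _).hom
    have hT := Triangle.shift_distinguished _ hC.singleTriangle_distinguished n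
    have hI0 : φ' ≫ ((((shiftFunctor (Triangle (DCoh.D X)) n).obj hC.singleTriangle).mor₁))⟦(1 : ℤ)⟧' = 0 := by
      rw [← cancel_mono ((e (DCoh.inD X I)).inv ≫
        ((((DerivedCategory.singleFunctors X.Modules).shiftIso (((k + 1 : ℕ) : ℤ) + 1)
          (-(((k + 1 : ℕ) : ℤ) + 1)) 0 (by omega))).app I).hom), zero_comp]
      exact hA S hS.1 _ (by omega) _
    obtain ⟨ψ, hψ⟩ := Triangle.coyoneda_exact₁ _ hT φ' hI0
    obtain ⟨S', p, hS', hp, h⟩ := ih S hS (cokernel ι) inferInstance ψ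
    refine ⟨S', p, hS', hp, ?_⟩
    rw [← cancel_mono (e (DCoh.inD X M)).hom, zero_comp, Category.assoc]
    change (DerivedCategory.singleFunctor X.Modules 0).map p ≫ φ' = 0
    rw [hψ, ← Category.assoc]
    exact (congrArg (· ≫ _) h).trans zero_comp

/-- Maps into quasi-coherent objects of negative degrees are effaceable. -/
theorem exists_kill (n : ℕ) : ∀ (S : X.Modules), Coh.IsCoh S → ∀ (N : DCoh.D X), DCoh.IsQCohD N →
    N.IsGE (-(n : ℤ)) → N.IsLE (-1) → ∀ φ : DCoh.inD X S ⟶ N,
      ∃ (S' : X.Modules) (p : S' ⟶ S), Coh.IsCoh S' ∧ Epi p ∧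
        (DerivedCategory.singleFunctor X.Modules 0).map p ≫ φ = 0 := by
  induction n with
  | zero =>
    intro S hS N _ hge hle φ
    haveI := hle
    haveI : N.IsGE 0 := by simpa using hge
    have hz : IsZero N := t.isZero N (-1) 0 (by omega)
    exact ⟨S, 𝟙 S, hS, inferInstance, hz.eq_of_tgt _ _⟩
  | succ n ih =>
    intro S hS N hN hge hle φ
    haveI := hge
    haveI := hle
    let c : ℤ := -((n : ℤ) + 1)
    have hT := t.triangleLEGT_distinguished c N
    let A := (t.truncLE c).obj N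
    let B := (t.truncGT c).obj N
    haveI : B.IsGE (-(n : ℤ)) := by
      have : B.IsGE (c + 1) := inferInstance
      rw [show -(n : ℤ) = c + 1 by omega]
      exact this
    haveI : B.IsLE (-1) := (DerivedCategory.isLE_iff _ _).2 fun q hq => by
      haveI := Groth.Agent.DerLib.Devissage.isIso_homology_truncGTπ N c q (by omega)
      exact (DerivedCategory.isZero_of_isLE N (-1) q hq).of_iso
        (asIso ((DerivedCategory.homologyFunctor X.Modules q).map ((t.truncGTπ c).app N))).symm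
    haveI : A.IsLE c := inferInstance
    haveI : A.IsGE c := (DerivedCategory.isGE_iff _ _).2 fun q hq => by
      haveI := Groth.Agent.DerLib.Devissage.isIso_homology_truncLEι N c q (by omega)
      exact (DerivedCategory.isZero_of_isGE N (-((n + 1 : ℕ) : ℤ)) q (by omega)).of_iso
        (asIso ((DerivedCategory.homologyFunctor X.Modules q).map ((t.truncLEι c).app N)))
    have hAq : DCoh.IsQCohD A := QRlimLib.isQCohD_truncLE hN c
    have hBq : DCoh.IsQCohD B := fun q => by
      by_cases hq : c < q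
      · haveI := Groth.Agent.DerLib.Devissage.isIso_homology_truncGTπ N c q hq
        exact @QCohLib.isQCoh_of_iso _ _ _
          (asIso ((DerivedCategory.homologyFunctor X.Modules q).map ((t.truncGTπ c).app N))) (hN q)
      · exact KFlatLib.isQCoh_zero (DerivedCategory.isZero_of_isGE B (-(n : ℤ)) q (by omega))
    obtain ⟨S₁, p₁, hS₁, hp₁, h₁⟩ := ih S hS B hBq inferInstance inferInstance
      (φ ≫ (t.truncGTπ c).app N)
    obtain ⟨ψ, hψ⟩ := Triangle.coyoneda_exact₂ _ hT
      ((DerivedCategory.singleFunctor X.Modules 0).map p₁ ≫ φ) (by rw [Category.assoc]; exact h₁)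
    obtain ⟨eA⟩ := Groth.Agent.DerLib.Devissage.nonempty_iso_single A c
    let eA' : A ≅ (DCoh.inD X (DCoh.HD A c))⟦((n : ℤ) + 1)⟧ := eA ≪≫
      (((DerivedCategory.singleFunctors X.Modules).shiftIso ((n : ℤ) + 1) c 0 (by omega)).app _).symm
    obtain ⟨S₂, p₂, hS₂, hp₂, h₂⟩ := exists_kill_single hd n S₁ hS₁ _ (hAq c) (ψ ≫ eA'.hom)
    refine ⟨S₂, p₂ ≫ p₁, hS₂, epi_comp _ _, ?_⟩
    rw [Functor.map_comp, Category.assoc, hψ]
    have h₃ : (DerivedCategory.singleFunctor X.Modules 0).map p₂ ≫ ψ = 0 := by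
      rw [← cancel_mono eA'.hom, zero_comp, Category.assoc]
      simpa using h₂
    rw [← Category.assoc]
    exact (congrArg (· ≫ _) h₃).trans zero_comp

end KiehlLib
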