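import Groth.Agent.KiehlLib.Lift
import Groth.Agent.InjModLib.Envelope

/-!
# Effaceability on Noetherian schemes without separatedness
-/

set_option autoImplicit false
set_option backward.isDefEq.respectTransparency false
set_option backward.isDefEq.respectTransparency.types false
set_option maxHeartbeats 1000000
set_option linter.style.haveILetI false

universe u

open CategoryTheory CategoryTheory.Limits CategoryTheory.Pretriangulated AlgebraicGeometry Opposite
open Groth.Agent
open DerivedCategory.TStructure (t)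

attribute [local instance] HasDerivedCategory.standard

namespace KiehlLib

variable {X : Scheme.{u}}

theorem homAcyclic_of_injective (I : X.Modules) [Injective I] : HomAcyclic I := by
  intro S _ i hi φ
  let c₀ := (DerivedCategory.singleFunctorIsoCompQ X.Modules 0).app S
  let cᵢ := (DerivedCategory.singleFunctorIsoCompQ X.Modules i).app I
  have h := DerivedCategory.to_singleFunctor_obj_eq_zero_of_injective (c₀.inv ≫ φ ≫ cᵢ.hom) 0 hi
  calc φ = c₀.hom ≫ (c₀.inv ≫ φ ≫ cᵢ.hom) ≫ cᵢ.inv := by simp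
    _ = 0 := by rw [h, zero_comp, comp_zero]

/-- Every quasi-coherent module embeds in one without higher maps. -/
theorem exists_homAcyclic_envelope_noeth [IsLocallyNoetherian X] (M : X.Modules) [Coh.IsQCoh M] :
    ∃ (I : X.Modules) (ι : M ⟶ I), Mono ι ∧ Coh.IsQCoh I ∧ HomAcyclic I := by
  obtain ⟨I, ι, h₁, h₂, h₃⟩ := InjModLib.exists_injective_qcoh_envelope M
  exact ⟨I, ι, h₁, h₂, homAcyclic_of_injective I⟩

variable [IsNoetherian X]

/-- Maps of positive degree into a quasi-coherent module are effaceable. -/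
theorem exists_kill_single_noeth (k : ℕ) : ∀ (S : X.Modules), Coh.IsCoh S → ∀ (M : X.Modules), Coh.IsQCoh M →
    ∀ φ : DCoh.inD X S ⟶ (DCoh.inD X M)⟦((k : ℤ) + 1)⟧,
      ∃ (S' : X.Modules) (p : S' ⟶ S), Coh.IsCoh S' ∧ Epi p ∧
        (DerivedCategory.singleFunctor X.Modules 0).map p ≫ φ = 0 := by
  induction k with
  | zero =>
    intro S hS M hM φ
    haveI := hM
    haveI := hS.1
    obtain ⟨I, ι, hι, hI, hA⟩ := exists_homAcyclic_envelope_noeth M
    haveI : Coh.IsQCoh (cokernel ι) := QCohLib.isQCoh_cokernel ι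
    let C := ShortComplex.mk ι (cokernel.π ι) (cokernel.condition ι)
    have hC : C.ShortExact := ⟨ShortComplex.exact_of_g_is_cokernel _ (cokernelIsCokernel ι)⟩
    let φ' : DCoh.inD X S ⟶ (DCoh.inD X M)⟦(1 : ℤ)⟧ :=
      φ ≫ eqToHom (by simp)
    have hI0 : φ' ≫ ((DerivedCategory.singleFunctor X.Modules 0).map ι)⟦(1 : ℤ)⟧' = 0 := by
      rw [← cancel_mono ((((DerivedCategory.singleFunctors X.Modules).shiftIso (1 : ℤ) (-1) 0 (by omega))).app I).hom,
        zero_comp]
      exact hA S hS.1 (-1) (by omega) _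
    obtain ⟨ψ, hψ⟩ := Triangle.coyoneda_exact₁ _ hC.singleTriangle_distinguished φ' hI0
    obtain ⟨ψ₀, rfl⟩ := (DerivedCategory.singleFunctor X.Modules 0).map_surjective ψ
    haveI := hI
    haveI : Coh.IsQCoh (I ⊞ S) := QCohLib.isQCoh_biprod I S
    haveI : Coh.IsQCoh (pullback (cokernel.π ι) ψ₀) :=
      @QCohLib.isQCoh_of_iso _ _ _ ((Abelian.PullbackToBiproductIsKernel.isLimitPullbackToBiproduct
        (cokernel.π ι) ψ₀).conePointUniqueUpToIso (kernelIsKernel _)).symm (QCohLib.isQCoh_kernel _)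
    haveI : Epi (pullback.snd (cokernel.π ι) ψ₀) := inferInstance
    obtain ⟨S', i, hS', hp⟩ := exists_coh_epi (pullback.snd (cokernel.π ι) ψ₀) hS
    refine ⟨S', i ≫ pullback.snd (cokernel.π ι) ψ₀, hS', hp, ?_⟩
    have h0 : (DerivedCategory.singleFunctor X.Modules 0).map (i ≫ pullback.snd (cokernel.π ι) ψ₀) ≫ φ' = 0 := by
      rw [hψ, ← Category.assoc, ← Functor.map_comp, Category.assoc, ← pullback.condition,
        ← Category.assoc, Functor.map_comp, Category.assoc]
      erw [comp_distTriang_mor_zero₂₃ _ hC.singleTriangle_distinguished, comp_zero]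
    simpa [φ'] using h0
  | succ k ih =>
    intro S hS M hM φ
    haveI := hM
    haveI := hS.1
    obtain ⟨I, ι, hι, hI, hA⟩ := exists_homAcyclic_envelope_noeth M
    haveI : Coh.IsQCoh (cokernel ι) := QCohLib.isQCoh_cokernel ι
    let C := ShortComplex.mk ι (cokernel.π ι) (cokernel.condition ι)
    have hC : C.ShortExact := ⟨ShortComplex.exact_of_g_is_cokernel _ (cokernelIsCokernel ι)⟩
    let n : ℤ := (k : ℤ) + 1
    let e : ∀ A : DCoh.D X, A⟦((k + 1 : ℕ) : ℤ) + 1⟧ ≅ (A⟦n⟧)⟦(1 : ℤ)⟧ := fun A =>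
      (shiftFunctorAdd' (DCoh.D X) n 1 (((k + 1 : ℕ) : ℤ) + 1) (by omega)).app A
    let φ' := φ ≫ (e _).hom
    have hT := Triangle.shift_distinguished _ hC.singleTriangle_distinguished n
    have hI0 : φ' ≫ ((((shiftFunctor (Triangle (DCoh.D X)) n).obj hC.singleTriangle).mor₁))⟦(1 : ℤ)⟧' = 0 := by
      rw [← cancel_mono ((e (DCoh.inD X I)).inv ≫
        ((((DerivedCategory.singleFunctors X.Modules).shiftIso (((k + 1 : ℕ) : ℤ) + 1)
          (-(((k + 1 : ℕ) : ℤ) + 1)) 0 (by omega))).app I).hom), zero_comp]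
      exact hA S hS.1 _ (by omega) _
    obtain ⟨ψ, hψ⟩ := Triangle.coyoneda_exact₁ _ hT φ' hI0
    obtain ⟨S', p, hS', hp, h⟩ := ih S hS (cokernel ι) inferInstance ψ
    refine ⟨S', p, hS', hp, ?_⟩
    rw [← cancel_mono (e (DCoh.inD X M)).hom, zero_comp, Category.assoc]
    change (DerivedCategory.singleFunctor X.Modules 0).map p ≫ φ' = 0
    rw [hψ, ← Category.assoc]
    exact (congrArg (· ≫ _) h).trans zero_comp

/-- Maps into quasi-coherent objects of negative degrees are effaceable. -/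
theorem exists_kill_noeth (n : ℕ) : ∀ (S : X.Modules), Coh.IsCoh S → ∀ (N : DCoh.D X), DCoh.IsQCohD N →
    N.IsGE (-(n : ℤ)) → N.IsLE (-1) → ∀ φ : DCoh.inD X S ⟶ N,
      ∃ (S' : X.Modules) (p : S' ⟶ S), Coh.IsCoh S' ∧ Epi p ∧
        (DerivedCategory.singleFunctor X.Modules 0).map p ≫ φ = 0 := by
  induction n with
  | zero =>
    intro S hS N _ hge hle φ
    haveI := hle
    haveI : N.IsGE 0 := by simpa using hge
    have hz : IsZero N := t.isZero N (-1) 0 (by omega)
    exact ⟨S, 𝟙 S, hS, inferInstance, hz.eq_of_tgt _ _⟩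
  | succ n ih =>
    intro S hS N hN hge hle φ
    haveI := hge
    haveI := hle
    let c : ℤ := -((n : ℤ) + 1)
    have hT := t.triangleLEGT_distinguished c N
    let A := (t.truncLE c).obj N
    let B := (t.truncGT c).obj N
    haveI : B.IsGE (-(n : ℤ)) := by
      have : B.IsGE (c + 1) := inferInstance
      rw [show -(n : ℤ) = c + 1 by omega]
      exact this
    haveI : B.IsLE (-1) := (DerivedCategory.isLE_iff _ _).2 fun q hq => by
      haveI := Groth.Agent.DerLib.Devissage.isIso_homology_truncGTπ N c q (by omega)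
      exact (DerivedCategory.isZero_of_isLE N (-1) q hq).of_iso
        (asIso ((DerivedCategory.homologyFunctor X.Modules q).map ((t.truncGTπ c).app N))).symm
    haveI : A.IsLE c := inferInstance
    haveI : A.IsGE c := (DerivedCategory.isGE_iff _ _).2 fun q hq => by
      haveI := Groth.Agent.DerLib.Devissage.isIso_homology_truncLEι N c q (by omega)
      exact (DerivedCategory.isZero_of_isGE N (-((n + 1 : ℕ) : ℤ)) q (by omega)).of_iso
        (asIso ((DerivedCategory.homologyFunctor X.Modules q).map ((t.truncLEι c).app N)))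
    have hAq : DCoh.IsQCohD A := QRlimLib.isQCohD_truncLE hN c
    have hBq : DCoh.IsQCohD B := fun q => by
      by_cases hq : c < q
      · haveI := Groth.Agent.DerLib.Devissage.isIso_homology_truncGTπ N c q hq
        exact @QCohLib.isQCoh_of_iso _ _ _
          (asIso ((DerivedCategory.homologyFunctor X.Modules q).map ((t.truncGTπ c).app N))) (hN q)
      · exact KFlatLib.isQCoh_zero (DerivedCategory.isZero_of_isGE B (-(n : ℤ)) q (by omega))
    obtain ⟨S₁, p₁, hS₁, hp₁, h₁⟩ := ih S hS B hBq inferInstance inferInstance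
      (φ ≫ (t.truncGTπ c).app N)
    obtain ⟨ψ, hψ⟩ := Triangle.coyoneda_exact₂ _ hT
      ((DerivedCategory.singleFunctor X.Modules 0).map p₁ ≫ φ) (by rw [Category.assoc]; exact h₁)
    obtain ⟨eA⟩ := Groth.Agent.DerLib.Devissage.nonempty_iso_single A c
    let eA' : A ≅ (DCoh.inD X (DCoh.HD A c))⟦((n : ℤ) + 1)⟧ := eA ≪≫
      (((DerivedCategory.singleFunctors X.Modules).shiftIso ((n : ℤ) + 1) c 0 (by omega)).app _).symm
    obtain ⟨S₂, p₂, hS₂, hp₂, h₂⟩ := exists_kill_single_noeth n S₁ hS₁ _ (hAq c) (ψ ≫ eA'.hom)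
    refine ⟨S₂, p₂ ≫ p₁, hS₂, epi_comp _ _, ?_⟩
    rw [Functor.map_comp, Category.assoc, hψ]
    have h₃ : (DerivedCategory.singleFunctor X.Modules 0).map p₂ ≫ ψ = 0 := by
      rw [← cancel_mono eA'.hom, zero_comp, Category.assoc]
      simpa using h₂
    rw [← Category.assoc]
    exact (congrArg (· ≫ _) h₃).trans zero_comp

/-- Obstructions in lower degrees are effaceable. -/
theorem exists_kill_noeth' {Y : Scheme.{u}} [IsNoetherian Y] {b a : ℤ} {S : Y.Modules} (hS : Coh.IsCoh S)
    (N : DCoh.D Y) (hN : DCoh.IsQCohD N) [N.IsGE a] [N.IsLE (b - 1)]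
    (o : (DerivedCategory.singleFunctor Y.Modules b).obj S ⟶ N) :
    ∃ (S' : Y.Modules) (p : S' ⟶ S), Coh.IsCoh S' ∧ Epi p ∧
      (DerivedCategory.singleFunctor Y.Modules b).map p ≫ o = 0 := by
  let e := (DerivedCategory.singleFunctors Y.Modules).shiftIso b 0 b (by omega)
  haveI : (N⟦b⟧).IsLE (-1) := (DerivedCategory.isLE_iff _ _).2 fun q hq =>
    PerfHomLib.isZero_HD_shift (DerivedCategory.isZero_of_isLE N (b - 1) _ (by omega))
  haveI : (N⟦b⟧).IsGE (-((b - a).toNat : ℤ)) := (DerivedCategory.isGE_iff _ _).2 fun q hq =>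
    PerfHomLib.isZero_HD_shift (DerivedCategory.isZero_of_isGE N a _ (by omega))
  obtain ⟨S', p, hS', hp, h⟩ := exists_kill_noeth (b - a).toNat S hS _ (KFlatLib.isQCohD_shift hN b)
    inferInstance inferInstance ((e.app S).inv ≫ o⟦b⟧')
  refine ⟨S', p, hS', hp, (shiftFunctor (DCoh.D Y) b).map_injective ?_⟩
  rw [Functor.map_zero, Functor.map_comp, ← cancel_epi (e.app S').inv, comp_zero, ← Category.assoc]
  have hn : (e.app S').inv ≫ ((DerivedCategory.singleFunctor Y.Modules b).map p)⟦b⟧' =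
      (DerivedCategory.singleFunctor Y.Modules 0).map p ≫ (e.app S).inv := (e.inv.naturality p).symm
  rw [hn, Category.assoc]
  exact h

end KiehlLib
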